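import Groth.Agent.L05.RatPow.Completion
import Groth.Agent.L01.CompletionReg
import Groth.Agent.L01.CompletionExt
import Groth.Agent.L06.NormalAscent

/-! Chains of point blow-ups of two dimensional local rings with rational Hilbert function. -/

set_option autoImplicit false
set_option maxSynthPendingDepth 5
set_option linter.style.haveILetI false
set_option backward.isDefEq.respectTransparency false
set_option backward.isDefEq.respectTransparency.types false

universe u

noncomputable section

namespace Groth.L05.PtChain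

open IsLocalRing Groth.L13.BU
open Groth.L05.RatPow (IsCplMap)

/-- `S'` is the local ring at a closed point of the exceptional fibre of the blow-up of the closed point. -/
def IsPtStep {S S' : Type u} [CommRing S] [IsLocalRing S] [CommRing S'] (φ : S →+* S') : Prop :=
  ∃ (a : S) (ha : a ∈ maximalIdeal S ^ 1) (q : Ideal (Chart (maximalIdeal S) a ha)) (_ : q.IsMaximal),
    a ≠ 0 ∧ maximalIdeal S ≤ q.comap (chartHom (maximalIdeal S) a ha) ∧
    ∃ e : Localization.AtPrime q ≃+* S',
      ∀ x, e (algebraMap _ (Localization.AtPrime q) (chartHom (maximalIdeal S) a ha x)) = φ x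

/-- The Hilbert function of a rational surface singularity of multiplicity `μ`. -/
def HLin (T : Type u) [CommRing T] [IsLocalRing T] (μ : ℕ) : Prop :=
  ∀ r, Module.length T (T ⧸ maximalIdeal T ^ r) = ((∑ i ∈ Finset.range r, (i * μ + 1) : ℕ) : ℕ∞)

/-- The properties of the local rings in a chain. -/
structure Good (T : Type u) [CommRing T] [IsLocalRing T] [IsNoetherianRing T] : Prop where
  dim : ringKrullDim T = 2
  cplDomain : IsDomain (EGA4.Cpl T)
  cplNormal : IsIntegrallyClosed (EGA4.Cpl T)
  sing : ¬ IsRegularLocalRing T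
  hilb : ∃ μ, HLin T μ

variable {T : Type u} [CommRing T] [IsLocalRing T] [IsNoetherianRing T]

theorem Good.isDomain (h : Good T) : IsDomain T := by
  haveI := Groth.L06.NormalAscent.faithfullyFlat_cpl T
  haveI := h.cplDomain
  haveI := h.cplNormal
  exact (Groth.L06.NormalAscent.isIntegrallyClosed_of_faithfullyFlat T (EGA4.Cpl T)).1

theorem Good.isNormal (h : Good T) : IsIntegrallyClosed T := by
  haveI := Groth.L06.NormalAscent.faithfullyFlat_cpl T
  haveI := h.cplDomain
  haveI := h.cplNormal
  exact (Groth.L06.NormalAscent.isIntegrallyClosed_of_faithfullyFlat T (EGA4.Cpl T)).2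

theorem Good.not_isField (h : Good T) : ¬ IsField T := fun hf => by
  have := h.dim
  rw [ringKrullDim_eq_zero_of_isField hf] at this
  norm_num at this

theorem HLin.unique {μ μ' : ℕ} (h : HLin T μ) (h' : HLin T μ') : μ = μ' := by
  have := (h 2).symm.trans (h' 2)
  simp [Finset.sum_range_succ] at this
  norm_cast at this

section Transfer

variable {A B : Type u} [CommRing A] [IsLocalRing A] [IsNoetherianRing A] [CommRing B] [IsLocalRing B]
  {ι : A →+* B}

theorem cplMap_quot_bijective (hι : IsCplMap ι) (N : ℕ) :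
    ∃ e : (A ⧸ maximalIdeal A ^ N) ≃+* (B ⧸ maximalIdeal B ^ N), ∀ a, e (Ideal.Quotient.mk _ a) = Ideal.Quotient.mk _ (ι a) := by
  have hle : maximalIdeal A ^ N ≤ (maximalIdeal B ^ N).comap ι :=
    Ideal.map_le_iff_le_comap.1 (hι.map_pow N).le
  refine ⟨RingEquiv.ofBijective (Ideal.quotientMap _ ι hle) ⟨?_, fun z => ?_⟩, fun a => rfl⟩
  · refine (injective_iff_map_eq_zero _).2 fun z hz => ?_
    obtain ⟨r, rfl⟩ := Ideal.Quotient.mk_surjective z
    refine Ideal.Quotient.eq_zero_iff_mem.2 (hι.mem_of _ ?_)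
    rw [hι.map_pow]
    exact Ideal.Quotient.eq_zero_iff_mem.1 hz
  · obtain ⟨b, rfl⟩ := Ideal.Quotient.mk_surjective z
    obtain ⟨r, hr⟩ := hι.approx N b
    exact ⟨Ideal.Quotient.mk _ r, (Ideal.Quotient.eq.2 hr).symm⟩

omit [IsNoetherianRing A] in
theorem length_quot_ringEquiv {I : Ideal A} {J : Ideal B} (e : (A ⧸ I) ≃+* (B ⧸ J)) :
    Module.length A (A ⧸ I) = Module.length B (B ⧸ J) := by
  rw [Module.length_eq_of_surjective (S := A) (R := A ⧸ I) Ideal.Quotient.mk_surjective,
    Module.length_eq_of_surjective (S := B) (R := B ⧸ J) Ideal.Quotient.mk_surjective]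
  haveI : RingHomSurjective (e.toRingHom : (A ⧸ I) →+* (B ⧸ J)) := ⟨e.surjective⟩
  let f : (A ⧸ I) →ₛₗ[(e.toRingHom : (A ⧸ I) →+* (B ⧸ J))] (B ⧸ J) :=
    { toFun := e, map_add' := map_add e, map_smul' := fun r x => map_mul e r x }
  rw [Module.length, Module.length, WithBot.unbot_inj,
    Order.krullDim_eq_of_orderIso (Submodule.orderIsoMapComapOfBijective f e.bijective)]

theorem cplMap_hlin (hι : IsCplMap ι) {μ : ℕ} (h : HLin A μ) : HLin B μ := fun r => by
  obtain ⟨e, -⟩ := cplMap_quot_bijective hι r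
  rw [← length_quot_ringEquiv e]
  exact h r

theorem cplMap_isLocalHom (hι : IsCplMap ι) (x : A) (hx : x ∈ maximalIdeal A) : ι x ∈ maximalIdeal B := by
  simpa using Groth.L05.RatPow.mem_cpl hι (n := 1) (c := x) (by simpa using hx)

theorem cplMap_equiv (hι : IsCplMap ι) : Nonempty (EGA4.Cpl A ≃+* EGA4.Cpl B) :=
  Groth.L05.RatPow.nonempty_cpl_equiv ι (Ideal.map_le_iff_le_comap.2 fun x hx => cplMap_isLocalHom hι x hx)
    (fun N b => hι.approx N b) fun N r hr => hι.mem_of _ (by rwa [hι.map_pow])

theorem cplMap_good [IsNoetherianRing B] (hι : IsCplMap ι) (h : Good A) : Good B := by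
  obtain ⟨e⟩ := cplMap_equiv hι
  haveI := h.cplDomain
  haveI := h.cplNormal
  haveI : IsDomain (EGA4.Cpl B) := e.symm.injective.isDomain e.symm.toRingHom
  refine ⟨?_, inferInstance, IsIntegrallyClosed.of_equiv e, fun hreg => h.sing ?_, ?_⟩
  · rw [← h.dim, ← Groth.L01.CompletionReg.ringKrullDim_completion (A := A),
      ← Groth.L01.CompletionReg.ringKrullDim_completion (A := B)]
    exact (ringKrullDim_eq_of_ringEquiv e).symm
  · rw [Groth.L01.CompletionReg.isRegularLocalRing_iff_completion]
    haveI : IsRegularLocalRing (EGA4.Cpl B) := (Groth.L01.CompletionReg.isRegularLocalRing_iff_completion B).1 hreg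
    exact IsRegularLocalRing.of_ringEquiv e.symm
  · obtain ⟨μ, hμ⟩ := h.hilb
    exact ⟨μ, cplMap_hlin hι hμ⟩

end Transfer

end Groth.L05.PtChain
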