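import Groth.Agent.L05.PtChain.Basic
import Groth.Agent.L05.RDP.Params
import Groth.Agent.L05.SurfRes.SepNorm
import Groth.Agent.L10.RegularUFD
import Groth.Agent.L07.LocFactorial

/-! A complete double point is a hypersurface in a three dimensional regular local ring. -/

set_option autoImplicit false
set_option linter.style.haveILetI false
set_option backward.isDefEq.respectTransparency false
set_option backward.isDefEq.respectTransparency.types false
set_option maxHeartbeats 800000

universe u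

noncomputable section

namespace Groth.L05.PtChain

open IsLocalRing

variable {T : Type u} [CommRing T] [IsLocalRing T] [IsNoetherianRing T]

theorem HLin.length_cotangent {μ : ℕ} (h : HLin T μ) :
    Module.length T (CotangentSpace T) = ((μ + 1 : ℕ) : ℕ∞) := by
  have h1 := h 1
  have h2 := h 2
  let g : CotangentSpace T →ₗ[T] T ⧸ maximalIdeal T ^ 2 := (maximalIdeal T).cotangentToQuotientSquare
  let π : (T ⧸ maximalIdeal T ^ 2) →ₗ[T] T ⧸ maximalIdeal T ^ 1 :=
    Submodule.factor (Ideal.pow_le_pow_right one_le_two)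
  have hπ : Function.Surjective π := Submodule.factor_surjective _
  have hex : Function.Exact g π := by
    intro z
    obtain ⟨z, rfl⟩ := Ideal.Quotient.mk_surjective z
    constructor
    · intro hz
      have hzm : z ∈ maximalIdeal T := by
        have := (Submodule.Quotient.mk_eq_zero (maximalIdeal T ^ 1)).1 hz
        simpa using this
      exact ⟨(maximalIdeal T).toCotangent ⟨z, hzm⟩, rfl⟩
    · rintro ⟨w, hw⟩
      obtain ⟨⟨w, hwm⟩, rfl⟩ := (maximalIdeal T).toCotangent_surjective w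
      rw [← hw]
      show π (Ideal.Quotient.mk _ w) = 0
      exact (Submodule.Quotient.mk_eq_zero _).2 (by simpa using hwm)
  have hg : Function.Injective g := by
    refine (injective_iff_map_eq_zero _).2 fun w hw => ?_
    obtain ⟨⟨w, hwm⟩, rfl⟩ := (maximalIdeal T).toCotangent_surjective w
    rw [Ideal.toCotangent_eq_zero]
    exact Ideal.Quotient.eq_zero_iff_mem.1 hw
  have h3 := Module.length_eq_add_of_exact g π hg hπ hex
  rw [h1, h2] at h3
  simp only [Finset.sum_range_succ, Finset.sum_range_zero, zero_mul, zero_add, one_mul, Nat.cast_add,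
    Nat.cast_one] at h3
  rw [add_comm (Module.length T _)] at h3
  rw [Nat.cast_add, Nat.cast_one]
  refine ENat.add_right_injective_of_ne_top (ENat.one_ne_top) ?_
  simp only
  rw [← h3]

theorem HLin.spanFinrank_eq {μ : ℕ} (h : HLin T μ) : (maximalIdeal T).spanFinrank = μ + 1 := by
  rw [IsLocalRing.spanFinrank_maximalIdeal_eq_finrank_cotangentSpace_of_fg (Ideal.fg_of_isNoetherianRing _)]
  have h1 := h.length_cotangent
  rw [Module.length_eq_of_surjective (S := T) (R := ResidueField T) residue_surjective,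
    Module.length_eq_finrank] at h1
  exact_mod_cast h1

/-- A regular local ring mapping onto `T` can be cut down to the embedding dimension. -/
theorem exists_regular_quotient {n : ℕ} (hT : (maximalIdeal T).spanFinrank ≤ n) :
    ∀ (d : ℕ) (R : Type u) [CommRing R] [IsRegularLocalRing R], ringKrullDim R = d → n ≤ d →
      ∀ π : R →+* T, Function.Surjective π →
        ∃ (R' : Type u) (_ : CommRing R') (_ : IsRegularLocalRing R') (π' : R' →+* T),
          ringKrullDim R' = n ∧ Function.Surjective π' := by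
  intro d
  induction d with
  | zero =>
    intro R _ _ hR hn π hπ
    obtain rfl : n = 0 := by omega
    exact ⟨R, inferInstance, inferInstance, π, hR, hπ⟩
  | succ d ih =>
    intro R _ _ hR hn π hπ
    by_cases hd : n = d + 1
    · subst hd
      exact ⟨R, inferInstance, inferInstance, π, hR, hπ⟩
    obtain ⟨h, hh, hh2⟩ : ∃ h ∈ RingHom.ker π, h ∉ maximalIdeal R ^ 2 := by
      by_contra hc
      push Not at hc
      have hfg : (maximalIdeal T).FG := Ideal.fg_of_isNoetherianRing _
      set G := Submodule.generators (maximalIdeal T : Ideal T)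
      have hG : Ideal.span G = maximalIdeal T := Submodule.span_generators _
      choose s hs using hπ
      have hle : maximalIdeal R ≤ Ideal.span (s '' G) := by
        refine Groth.L01.maximalIdeal_le_of_le_sup_sq fun r hr => ?_
        have h1 : π r ∈ (Ideal.span (s '' G)).map π := by
          rw [Ideal.map_span, ← Set.image_comp, show (π ∘ s) '' G = G by simp [Set.image, hs], hG,
            ← IsLocalRing.map_maximalIdeal_of_surjective π (fun y => ⟨s y, hs y⟩)]
          exact Ideal.mem_map_of_mem π hr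
        obtain ⟨r', hr', he⟩ := (Ideal.mem_map_iff_of_surjective π (fun y => ⟨s y, hs y⟩)).1 h1
        rw [show r = r' + (r - r') by ring]
        exact add_mem (Submodule.mem_sup_left hr')
          (Submodule.mem_sup_right (hc _ (by rw [RingHom.mem_ker, map_sub, he, sub_self])))
      have hsub : Ideal.span (s '' G) ≤ maximalIdeal R := Ideal.span_le.2 fun r ⟨g, hg, hgr⟩ => by
        rw [SetLike.mem_coe, ← hgr, IsLocalRing.mem_maximalIdeal, mem_nonunits_iff]
        intro hu
        exact (IsLocalRing.mem_maximalIdeal g).1 (hG ▸ Ideal.subset_span hg) (hs g ▸ hu.map π)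
      have h1 := IsRegularLocalRing.spanFinrank_maximalIdeal (R := R)
      rw [le_antisymm hle hsub, hR] at h1
      have h2 := Submodule.spanFinrank_span_le_ncard_of_finite (R := R) ((Submodule.FG.finite_generators hfg).image s)
      have h3 := Set.ncard_image_le (f := s) (Submodule.FG.finite_generators hfg)
      rw [Submodule.FG.generators_ncard hfg] at h3
      norm_cast at h1
      have hG' : G = Submodule.generators (maximalIdeal T : Ideal T) := rfl
      rw [← hG'] at h2 h3
      rw [Ideal.span] at h1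
      omega
    have hm : h ∈ maximalIdeal R := by
      rw [IsLocalRing.mem_maximalIdeal, mem_nonunits_iff]
      intro hu
      have := hu.map π
      rw [RingHom.mem_ker.1 hh] at this
      exact not_isUnit_zero this
    obtain ⟨hreg, hdim⟩ := Groth.L01.regular_quotient_of_notMem_sq hm hh2
    haveI := hreg
    obtain ⟨k, hk⟩ := Groth.L01.exists_dim_eq_nat (R := R ⧸ Ideal.span {h})
    rw [hk, hR] at hdim
    norm_cast at hdim
    refine ih (R ⧸ Ideal.span {h}) (by rw [hk, show k = d by omega]) (by omega)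
      (Ideal.Quotient.lift _ π fun r hr => ?_) (Ideal.Quotient.lift_surjective_of_surjective _ _ hπ)
    obtain ⟨c, rfl⟩ := Ideal.mem_span_singleton'.1 hr
    rw [map_mul, RingHom.mem_ker.1 hh, mul_zero]

/-- A complete local domain is a quotient of a regular local ring. -/
theorem exists_regular_surjection (T : Type u) [CommRing T] [IsDomain T] [IsLocalRing T] [IsNoetherianRing T]
    [IsAdicComplete (maximalIdeal T) T] :
    ∃ (R : Type u) (_ : CommRing R) (_ : IsRegularLocalRing R) (π : R →+* T), Function.Surjective π := by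
  obtain ⟨Λ, iΛ, n, f, hΛ, hf, hfin, hres⟩ := Groth.Agent.S0581.result T
  letI := iΛ
  obtain ⟨hΛd, hΛl, hΛr, hΛc⟩ : IsDomain Λ ∧ ∃ (_ : IsLocalRing Λ), IsRegularRing Λ ∧
      IsAdicComplete (maximalIdeal Λ) Λ := by
    rcases hΛ with hk | ⟨hd, hdvr, hc, -⟩
    · letI := hk.toField
      refine ⟨inferInstance, inferInstance, inferInstance, ?_⟩
      rw [isField_iff_maximalIdeal_eq.1 hk]; infer_instance
    · exact ⟨hd, inferInstance, inferInstance, hc⟩
  haveI := hΛd; haveI := hΛl; haveI := hΛr; haveI := hΛc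
  have hloc : ∀ i, f (MvPowerSeries.X i) ∈ maximalIdeal T := fun i => by
    letI := f.toAlgebra
    haveI : Module.Finite (MvPowerSeries (Fin n) Λ) T := RingHom.finite_algebraMap.1 hfin
    have hmax : maximalIdeal (MvPowerSeries (Fin n) Λ) = (maximalIdeal T).comap f :=
      (IsLocalRing.eq_maximalIdeal (Ideal.isMaximal_comap_of_isIntegral_of_isMaximal (maximalIdeal T))).symm
    rw [← Ideal.mem_comap, ← hmax, IsLocalRing.mem_maximalIdeal, mem_nonunits_iff, MvPowerSeries.isUnit_iff_constantCoeff,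
      MvPowerSeries.constantCoeff_X]
    exact not_isUnit_zero
  have hC : Function.Surjective ((IsLocalRing.residue T).comp (f.comp MvPowerSeries.C)) := fun z => by
    obtain ⟨g, rfl⟩ := hres z
    refine ⟨MvPowerSeries.constantCoeff g, ?_⟩
    rw [← sub_eq_zero, RingHom.comp_apply, RingHom.comp_apply, RingHom.comp_apply, ← map_sub, ← map_sub,
      residue_eq_zero_iff]
    letI := f.toAlgebra
    haveI : Module.Finite (MvPowerSeries (Fin n) Λ) T := RingHom.finite_algebraMap.1 hfin
    have hmax : maximalIdeal (MvPowerSeries (Fin n) Λ) = (maximalIdeal T).comap f :=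
      (IsLocalRing.eq_maximalIdeal (Ideal.isMaximal_comap_of_isIntegral_of_isMaximal (maximalIdeal T))).symm
    rw [← Ideal.mem_comap, ← hmax, IsLocalRing.mem_maximalIdeal, mem_nonunits_iff, MvPowerSeries.isUnit_iff_constantCoeff,
      map_sub, MvPowerSeries.constantCoeff_C, sub_self]
    exact not_isUnit_zero
  have hfg : (maximalIdeal T).FG := Ideal.fg_of_isNoetherianRing _
  obtain ⟨N, x, hx⟩ := Submodule.fg_iff_exists_fin_generating_family.1 hfg
  obtain ⟨π, -, -, hπ⟩ := Groth.L01.Cohen.exists_surjective_powerSeries (f.comp MvPowerSeries.C) hC x hx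
  haveI : IsRegularRing (MvPowerSeries (Fin N) Λ) := Groth.Agent.S5784.result Λ N
  haveI : IsRegularLocalRing (MvPowerSeries (Fin N) Λ) := IsRegularLocalRing.of_isRegularRing_of_isLocalRing _
  exact ⟨_, inferInstance, inferInstance, π, hπ⟩

open Groth.L05.RDP in
/-- A complete singular double point is a hypersurface double point. -/
theorem exists_presentation [IsDomain T] [IsAdicComplete (maximalIdeal T) T] (hdim : ringKrullDim T = 2)
    (hsing : ¬ IsRegularLocalRing T) (h : HLin T 2) :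
    ∃ (R : Type u) (_ : CommRing R) (_ : IsRegularLocalRing R) (π : R →+* T) (f : R), ringKrullDim R = 3 ∧
      Function.Surjective π ∧ RingHom.ker π = Ideal.span {f} ∧ f ∈ maximalIdeal R ^ 2 ∧ f ∉ maximalIdeal R ^ 3 := by
  obtain ⟨R₀, _, _, π₀, hπ₀⟩ := exists_regular_surjection T
  obtain ⟨d, hd⟩ := Groth.L01.exists_dim_eq_nat (R := R₀)
  have h3 : 3 ≤ d := by
    have h1 : (maximalIdeal T).spanFinrank ≤ (maximalIdeal R₀).spanFinrank := by
      rw [← IsLocalRing.map_maximalIdeal_of_surjective π₀ hπ₀]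
      exact Ideal.spanFinrank_map_le_of_fg π₀ (Ideal.fg_of_isNoetherianRing _)
    rw [h.spanFinrank_eq] at h1
    have h2 := IsRegularLocalRing.spanFinrank_maximalIdeal (R := R₀)
    rw [hd] at h2
    norm_cast at h2
    omega
  obtain ⟨R, _, _, π, hR, hπ⟩ := exists_regular_quotient h.spanFinrank_eq.le d R₀ hd h3 π₀ hπ₀
  haveI := Groth.L01.isDomain_of_regular R
  haveI := Groth.L10.RegUFD.isUFD R
  haveI hP : (RingHom.ker π).IsPrime := RingHom.ker_isPrime π
  have hne : RingHom.ker π ≠ ⊥ := fun hbot => hsing (IsRegularLocalRing.of_ringEquiv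
    (RingEquiv.ofBijective π ⟨(RingHom.injective_iff_ker_eq_bot π).2 hbot, hπ⟩))
  obtain ⟨p, hpP, hp⟩ := Ideal.IsPrime.exists_mem_prime_of_ne_bot hP hne
  haveI : (Ideal.span {p}).IsPrime := (Ideal.span_singleton_prime hp.ne_zero).2 hp
  have hker : RingHom.ker π = Ideal.span {p} := by
    refine (le_antisymm ((Ideal.span_singleton_le_iff_mem _).2 hpP) ?_).symm
    intro z hz
    by_contra hzp
    have hz0 : z ≠ 0 := fun h0 => hzp (h0 ▸ zero_mem _)
    have hpm : p ∈ maximalIdeal R := le_maximalIdeal hP.ne_top hpP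
    have h1 := ringKrullDim_quotient_span_singleton_succ_eq_ringKrullDim_of_mem_nonZeroDivisors
      (mem_nonZeroDivisors_of_ne_zero hp.ne_zero) hpm
    haveI : IsDomain (R ⧸ Ideal.span {p}) := (Ideal.Quotient.isDomain_iff_prime _).2 inferInstance
    haveI : IsLocalRing (R ⧸ Ideal.span {p}) := Groth.L01.isLocalRing_quotient (Ideal.IsPrime.ne_top inferInstance)
    have hzmk : Ideal.Quotient.mk (Ideal.span {p}) z ≠ 0 := fun h0 => hzp (Ideal.Quotient.eq_zero_iff_mem.1 h0)
    have hzm : Ideal.Quotient.mk (Ideal.span {p}) z ∈ maximalIdeal (R ⧸ Ideal.span {p}) := by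
      rw [Groth.L01.maximalIdeal_quotient_eq_map]; exact Ideal.mem_map_of_mem _ (le_maximalIdeal hP.ne_top hz)
    have h2 := ringKrullDim_quotient_span_singleton_succ_eq_ringKrullDim_of_mem_nonZeroDivisors
      (mem_nonZeroDivisors_of_ne_zero hzmk) hzm
    let ρ : (R ⧸ Ideal.span {p}) ⧸ Ideal.span {Ideal.Quotient.mk (Ideal.span {p}) z} →+* T :=
      Ideal.Quotient.lift _ (Ideal.Quotient.lift _ π fun r hr => by
        obtain ⟨c, rfl⟩ := Ideal.mem_span_singleton'.1 hr
        rw [map_mul, RingHom.mem_ker.1 hpP, mul_zero]) fun r hr => by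
        obtain ⟨c, rfl⟩ := Ideal.mem_span_singleton'.1 hr
        rw [map_mul, Ideal.Quotient.lift_mk, RingHom.mem_ker.1 hz, mul_zero]
    have h4 := ringKrullDim_le_of_surjective ρ
      (Ideal.Quotient.lift_surjective_of_surjective _ _ (Ideal.Quotient.lift_surjective_of_surjective _ _ hπ))
    haveI : IsLocalRing ((R ⧸ Ideal.span {p}) ⧸ Ideal.span {Ideal.Quotient.mk (Ideal.span {p}) z}) :=
      Groth.L01.isLocalRing_quotient
        (ne_top_of_le_ne_top (maximalIdeal.isMaximal _).ne_top ((Ideal.span_singleton_le_iff_mem _).2 hzm))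
    obtain ⟨a, ha⟩ := Groth.L01.exists_dim_eq_nat (R := R ⧸ Ideal.span {p})
    obtain ⟨b, hb⟩ := Groth.L01.exists_dim_eq_nat
      (R := (R ⧸ Ideal.span {p}) ⧸ Ideal.span {Ideal.Quotient.mk (Ideal.span {p}) z})
    rw [ha, hR] at h1
    rw [ha, hb] at h2
    rw [hdim, hb] at h4
    norm_cast at h1 h2 h4
    omega
  have hp2 : p ∈ maximalIdeal R ^ 2 := by
    by_contra hc
    obtain ⟨h1, -⟩ := Groth.L01.regular_quotient_of_notMem_sq (le_maximalIdeal hP.ne_top hpP) hc
    exact hsing (IsRegularLocalRing.of_ringEquiv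
      ((Ideal.quotEquivOfEq hker.symm).trans (RingHom.quotientKerEquivOfSurjective hπ)))
  refine ⟨R, inferInstance, inferInstance, π, p, hR, hπ, hker, hp2, fun hp3 => ?_⟩
  -- count the quadrics
  obtain ⟨a, ha, ha2⟩ : ∃ a ∈ maximalIdeal R, a ∉ maximalIdeal R ^ 2 := by
    by_contra hc
    push Not at hc
    have h1 := IsRegularLocalRing.spanFinrank_maximalIdeal (R := R)
    have h2 : maximalIdeal R ≤ ⊥ := Groth.L01.maximalIdeal_le_of_le_sup_sq fun r hr => Submodule.mem_sup_right (hc r hr)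
    rw [le_bot_iff.1 h2, Submodule.spanFinrank_bot, hR] at h1
    norm_num at h1
  obtain ⟨b, c, hP3⟩ := exists_params hR ha ha2
  have hlen : ∀ n ≤ 3, Module.length R (R ⧸ maximalIdeal R ^ n) = Module.length T (T ⧸ maximalIdeal T ^ n) := by
    intro n hn
    have hmap : (maximalIdeal R ^ n).map π = maximalIdeal T ^ n := by
      rw [Ideal.map_pow, IsLocalRing.map_maximalIdeal_of_surjective π hπ]
    have hcomap : maximalIdeal R ^ n = (maximalIdeal T ^ n).comap π := by
      rw [← hmap, Ideal.comap_map_of_surjective' π hπ, sup_eq_left.2 (hker.le.trans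
        ((Ideal.span_singleton_le_iff_mem _).2 (Ideal.pow_le_pow_right hn hp3)))]
    let e : (R ⧸ maximalIdeal R ^ n) ≃+* (T ⧸ maximalIdeal T ^ n) :=
      RingEquiv.ofBijective (Ideal.quotientMap _ π hcomap.le)
        ⟨Ideal.quotientMap_injective' hcomap.ge, Ideal.quotientMap_surjective hπ⟩
    exact length_quot_ringEquiv e
  have key : ∀ (K : Ideal R) (x : R), x ∉ K → Order.coheight (K ⊔ Ideal.span {x}) + 1 ≤ Order.coheight K :=
    fun K x hx => Order.coheight_add_one_le (lt_of_le_of_ne le_sup_left fun he =>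
      hx (he ▸ Submodule.mem_sup_right (Ideal.mem_span_singleton_self x)))
  set m3 := maximalIdeal R ^ 3
  have q := fun {c₁ c₂ c₃ c₄ c₅ c₆ : R} => hP3.quad_eq (c₁ := c₁) (c₂ := c₂) (c₃ := c₃) (c₄ := c₄) (c₅ := c₅) (c₆ := c₆)
  have one_notMem : (1 : R) ∉ maximalIdeal R := fun h1 => (maximalIdeal.isMaximal R).ne_top ((Ideal.eq_top_iff_one _).2 h1)
  have mem1 : ∀ {x y : R}, x ∈ m3 ⊔ Ideal.span {y} → ∃ r, x - r * y ∈ m3 := by
    intro x y hx
    obtain ⟨u, hu, v, hv, rfl⟩ := Submodule.mem_sup.1 hx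
    obtain ⟨r, rfl⟩ := Ideal.mem_span_singleton'.1 hv
    exact ⟨r, by simpa using hu⟩
  have k1 := key m3 (a ^ 2) fun hx =>
    one_notMem (q (c₁ := 1) (c₂ := 0) (c₃ := 0) (c₄ := 0) (c₅ := 0) (c₆ := 0) (by simpa using hx)).1
  have k2 := key (m3 ⊔ Ideal.span {a ^ 2}) (a * b) fun hx => by
    obtain ⟨r, hr⟩ := mem1 hx
    exact one_notMem (q (c₁ := -r) (c₂ := 1) (c₃ := 0) (c₄ := 0) (c₅ := 0) (c₆ := 0)
      (by convert hr using 1; ring)).2.1
  have k3 := key (m3 ⊔ Ideal.span {a ^ 2} ⊔ Ideal.span {a * b}) (a * c) fun hx => by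
    obtain ⟨u, hu, v, hv, he⟩ := Submodule.mem_sup.1 hx
    obtain ⟨r, hr⟩ := mem1 hu
    obtain ⟨s, rfl⟩ := Ideal.mem_span_singleton'.1 hv
    exact one_notMem (q (c₁ := -r) (c₂ := -s) (c₃ := 1) (c₄ := 0) (c₅ := 0) (c₆ := 0)
      (by convert hr using 1; rw [← he]; ring)).2.2.1
  have k4 := key (m3 ⊔ Ideal.span {a ^ 2} ⊔ Ideal.span {a * b} ⊔ Ideal.span {a * c}) (b ^ 2) fun hx => by
    obtain ⟨u', hu', v', hv', he'⟩ := Submodule.mem_sup.1 hx
    obtain ⟨u, hu, v, hv, he⟩ := Submodule.mem_sup.1 hu'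
    obtain ⟨r, hr⟩ := mem1 hu
    obtain ⟨s, rfl⟩ := Ideal.mem_span_singleton'.1 hv
    obtain ⟨t, rfl⟩ := Ideal.mem_span_singleton'.1 hv'
    exact one_notMem (q (c₁ := -r) (c₂ := -s) (c₃ := -t) (c₄ := 1) (c₅ := 0) (c₆ := 0)
      (by convert hr using 1; rw [← he', ← he]; ring)).2.2.2.1
  have k5 := key (m3 ⊔ Ideal.span {a ^ 2} ⊔ Ideal.span {a * b} ⊔ Ideal.span {a * c} ⊔ Ideal.span {b ^ 2}) (b * c)
    fun hx => by
      obtain ⟨u'', hu'', v'', hv'', he''⟩ := Submodule.mem_sup.1 hx
      obtain ⟨u', hu', v', hv', he'⟩ := Submodule.mem_sup.1 hu''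
      obtain ⟨u, hu, v, hv, he⟩ := Submodule.mem_sup.1 hu'
      obtain ⟨r, hr⟩ := mem1 hu
      obtain ⟨s, rfl⟩ := Ideal.mem_span_singleton'.1 hv
      obtain ⟨t, rfl⟩ := Ideal.mem_span_singleton'.1 hv'
      obtain ⟨w, rfl⟩ := Ideal.mem_span_singleton'.1 hv''
      exact one_notMem (q (c₁ := -r) (c₂ := -s) (c₃ := -t) (c₄ := -w) (c₅ := 1) (c₆ := 0)
        (by convert hr using 1; rw [← he'', ← he', ← he]; ring)).2.2.2.2.1
  have k6 := key
    (m3 ⊔ Ideal.span {a ^ 2} ⊔ Ideal.span {a * b} ⊔ Ideal.span {a * c} ⊔ Ideal.span {b ^ 2} ⊔ Ideal.span {b * c})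
    (c ^ 2) fun hx => by
      obtain ⟨u₃, hu₃, v₃, hv₃, he₃⟩ := Submodule.mem_sup.1 hx
      obtain ⟨u'', hu'', v'', hv'', he''⟩ := Submodule.mem_sup.1 hu₃
      obtain ⟨u', hu', v', hv', he'⟩ := Submodule.mem_sup.1 hu''
      obtain ⟨u, hu, v, hv, he⟩ := Submodule.mem_sup.1 hu'
      obtain ⟨r, hr⟩ := mem1 hu
      obtain ⟨s, rfl⟩ := Ideal.mem_span_singleton'.1 hv
      obtain ⟨t, rfl⟩ := Ideal.mem_span_singleton'.1 hv'
      obtain ⟨w, rfl⟩ := Ideal.mem_span_singleton'.1 hv''
      obtain ⟨z, rfl⟩ := Ideal.mem_span_singleton'.1 hv₃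
      exact one_notMem (q (c₁ := -r) (c₂ := -s) (c₃ := -t) (c₄ := -w) (c₅ := -z) (c₆ := 1)
        (by convert hr using 1; rw [← he₃, ← he'', ← he', ← he]; ring)).2.2.2.2.2
  have hm2 : m3 ⊔ Ideal.span {a ^ 2} ⊔ Ideal.span {a * b} ⊔ Ideal.span {a * c} ⊔ Ideal.span {b ^ 2} ⊔
      Ideal.span {b * c} ⊔ Ideal.span {c ^ 2} ≤ maximalIdeal R ^ 2 := by
    simp only [sup_le_iff, Ideal.span_singleton_le_iff_mem, sq]
    exact ⟨⟨⟨⟨⟨⟨by rw [← sq]; exact Ideal.pow_le_pow_right (by norm_num), Ideal.mul_mem_mul hP3.mem₁ hP3.mem₁⟩,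
      Ideal.mul_mem_mul hP3.mem₁ hP3.mem₂⟩, Ideal.mul_mem_mul hP3.mem₁ hP3.mem₃⟩,
      Ideal.mul_mem_mul hP3.mem₂ hP3.mem₂⟩, Ideal.mul_mem_mul hP3.mem₂ hP3.mem₃⟩,
      Ideal.mul_mem_mul hP3.mem₃ hP3.mem₃⟩
  have e2 := (hlen 2 (by norm_num)).trans (h 2)
  have e3 := (hlen 3 le_rfl).trans (h 3)
  rw [Module.length_quotient] at e2 e3
  have e4 := Order.coheight_anti hm2
  rw [e2] at e4
  rw [show maximalIdeal R ^ 3 = m3 from rfl] at e3
  simp only [Finset.sum_range_succ, Finset.sum_range_zero] at e3 e4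
  norm_num at e3 e4
  have k : Order.coheight (m3 ⊔ Ideal.span {a ^ 2} ⊔ Ideal.span {a * b} ⊔ Ideal.span {a * c} ⊔ Ideal.span {b ^ 2} ⊔
      Ideal.span {b * c} ⊔ Ideal.span {c ^ 2}) + 1 + 1 + 1 + 1 + 1 + 1 ≤ Order.coheight m3 :=
    le_trans (by gcongr; exact k2.trans' (by gcongr; exact k3.trans' (by gcongr; exact k4.trans' (by
      gcongr; exact k5.trans' (by gcongr))))) k1
  have k' : (4 : ℕ∞) + 1 + 1 + 1 + 1 + 1 + 1 ≤ Order.coheight m3 := le_trans (by gcongr) k
  rw [e3] at k'
  norm_num at k'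

end Groth.L05.PtChain
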