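import Groth.Agent.L05.PtChain.GPtStep
import Groth.Agent.L05.PtChain.Present
import Groth.Agent.L05.PtChain.Can.Step
import Groth.Agent.L05.PtChain.Can.Exist
import Groth.Agent.L05.PtChain.Can.Reduction

/-! A canonical ideal stays canonical along a point step. -/

set_option autoImplicit false
set_option maxSynthPendingDepth 5
set_option linter.style.haveILetI false
set_option backward.isDefEq.respectTransparency false
set_option backward.isDefEq.respectTransparency.types false
set_option maxHeartbeats 800000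

universe u

noncomputable section

namespace Groth.L05.PtChain

open IsLocalRing Groth.L13.BU

theorem Can.of_ringEquiv {A B : Type u} [CommRing A] [IsLocalRing A] [IsNoetherianRing A] [IsDomain A] [CommRing B]
    [IsLocalRing B] [IsNoetherianRing B] [IsDomain B] (e : A ≃+* B) (hA : ringKrullDim A = 2) {M : Ideal A}
    (h : Can M) : Can (M.map (e : A →+* B)) := by
  letI : Algebra A B := (e : A →+* B).toAlgebra
  let le : A ≃ₗ[A] B := { e with map_smul' := fun r x => map_mul e r x }
  haveI : Module.Flat A B := Module.Flat.of_linearEquiv le.symm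
  haveI : IsLocalHom (algebraMap A B) := ⟨fun r hr => (MulEquiv.isUnit_map e).1 hr⟩
  exact h.map (IsLocalRing.map_ringEquiv_maximalIdeal e) hA (by rw [← hA]; exact (ringKrullDim_eq_of_ringEquiv e).symm)

theorem HLin.two_le_of_not_regular {T : Type u} [CommRing T] [IsLocalRing T] [IsNoetherianRing T]
    (hdim : ringKrullDim T = 2) (hs : ¬ IsRegularLocalRing T) {μ : ℕ} (h : HLin T μ) : 2 ≤ μ := by
  by_contra hlt
  refine hs (IsRegularLocalRing.of_spanFinrank_maximalIdeal_le _ ?_)
  rw [hdim, h.spanFinrank_eq]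
  norm_cast
  omega

variable {T : Type u} [CommRing T] [IsLocalRing T] [IsNoetherianRing T] [IsDomain T]

theorem exists_sdata (hdim : ringKrullDim T = 2) (hs : ¬ IsRegularLocalRing T) {M : Ideal T} (hM : Can M)
    {x y : T} (hp : RegPair M x y) (h2 : maximalIdeal T ^ 2 ≤ Ideal.span {x, y} * maximalIdeal T) :
    ∃ s, SData M x y s := by
  classical
  set J := Ideal.span {x, y}
  have hJ : J ≤ maximalIdeal T := Ideal.span_le.2 (by rintro w (rfl | rfl); exacts [hp.mem₁, hp.mem₂])
  have hsoc := (covBy_ideal_iff (mul_le_soc _ _)).1 (hM.socle x y hp)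
  have hmM : maximalIdeal T * M ≤ soc J M := fun t ht => ⟨Ideal.mul_le_right ht, fun r hr => by
    have h3 : r * t ∈ maximalIdeal T * (maximalIdeal T * M) := Ideal.mul_mem_mul hr ht
    rw [← mul_assoc, ← sq] at h3
    exact (Ideal.mul_mono_left (h2.trans Ideal.mul_le_left)) h3⟩
  by_cases hex : ∃ s ∈ maximalIdeal T * M, s ∉ J * M
  · obtain ⟨s, hs', hsJ⟩ := hex
    exact ⟨s, hp, h2, hs', hsJ, hsoc.2 s (hmM hs') hsJ⟩
  push Not at hex
  exfalso
  have hall : soc J M = M := le_antisymm (fun t ht => ht.1) fun t ht => ⟨ht, fun r hr => hex _ (Ideal.mul_mem_mul hr ht)⟩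
  obtain ⟨⟨z, hz, hzJ⟩, hgen⟩ := hsoc
  have hMz : M ≤ Ideal.span {z} := by
    refine Submodule.le_of_le_smul_of_le_jacobson_bot (I := maximalIdeal T) (Ideal.fg_of_isNoetherianRing _)
      (maximalIdeal_le_jacobson _) ?_
    rw [smul_eq_mul, sup_comm]
    have h1 := hgen z hz hzJ
    rw [hall] at h1
    exact h1.trans (sup_le_sup_right (Ideal.mul_mono_left hJ) _)
  have hMeq : M = Ideal.span {z} := le_antisymm hMz ((Ideal.span_singleton_le_iff_mem _).2 hz.1)
  have hmJ : maximalIdeal T ≤ J := fun r hr => by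
    have h3 := hex (r * z) (Ideal.mul_mem_mul hr hz.1)
    rw [hMeq, Ideal.mem_mul_span_singleton] at h3
    obtain ⟨j, hj, hjz⟩ := h3
    have hz0 : z ≠ 0 := fun h0 => hM.ne_bot (by simp [hMeq, h0])
    rwa [← mul_right_cancel₀ hz0 hjz]
  refine hs (IsRegularLocalRing.of_spanFinrank_maximalIdeal_le _ ?_)
  rw [hdim, le_antisymm hmJ hJ]
  have h4 : (J : Submodule T T).spanFinrank ≤ 2 :=
    (Submodule.spanFinrank_span_le_ncard_of_finite (Set.toFinite _)).trans (Set.ncard_insert_le _ _ |>.trans (by simp))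
  exact_mod_cast h4

theorem can_step_core [IsIntegrallyClosed T] [Infinite (ResidueField T)] {T' : Type u} [CommRing T'] [IsLocalRing T']
    [IsNoetherianRing T'] {φ : T →+* T'} (hφ : IsPtStep φ) (hdim : ringKrullDim T = 2)
    (hs : ¬ IsRegularLocalRing T) {μ : ℕ} (hμ : HLin T μ) (hdim' : ringKrullDim T' = 2) {M : Ideal T} (hM : Can M) :
    Can (M.map φ) := by
  classical
  haveI := hφ.isDomain
  obtain ⟨a, ha, q, hq, hna, hqm, e, he⟩ := id hφ
  let W : Submodule T (maximalIdeal T) :=
    { carrier := {b | frac (maximalIdeal T) a ha 1 (b : T) (by rw [pow_one]; exact b.2) ∈ q}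
      add_mem' := fun {b c} hb hc => by
        show frac (maximalIdeal T) a ha 1 ((b : T) + (c : T)) _ ∈ q
        have h1 : frac (maximalIdeal T) a ha 1 ((b : T) + (c : T)) (by rw [pow_one]; exact (b + c).2) =
            frac _ a ha 1 (b : T) (by rw [pow_one]; exact b.2) + frac _ a ha 1 (c : T) (by rw [pow_one]; exact c.2) := by
          haveI := Groth.L05.RatPow.chart_isDomain (maximalIdeal T) a ha hna
          refine mul_left_cancel₀ (pow_ne_zero 1 (nonZeroDivisors.ne_zero (chartHom_nonZeroDivisor (maximalIdeal T) a ha))) ?_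
          rw [mul_add, pow_mul_frac, pow_mul_frac, pow_mul_frac, map_add]
        rw [h1]; exact add_mem hb hc
      zero_mem' := by
        show frac (maximalIdeal T) a ha 1 0 _ ∈ q
        rw [frac_eq_zero _ _ _ _ (k := 0) (by simp)]; exact zero_mem _
      smul_mem' := fun r b hb => by
        show frac (maximalIdeal T) a ha 1 (r * (b : T)) _ ∈ q
        have h1 := Ideal.mul_mem_left q (chartHom (maximalIdeal T) a ha r) hb
        rwa [chartHom_mul_frac] at h1 }
  have hW : W ≠ ⊤ := by
    intro htop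
    have h1 : (⟨a, by simpa using ha⟩ : maximalIdeal T) ∈ W := htop ▸ Submodule.mem_top
    change frac (maximalIdeal T) a ha 1 a _ ∈ q at h1
    refine hq.ne_top (q.eq_top_iff_one.2 ?_)
    convert h1 using 1
    haveI := Groth.L05.RatPow.chart_isDomain (maximalIdeal T) a ha hna
    refine mul_left_cancel₀ (pow_ne_zero 1 (nonZeroDivisors.ne_zero (chartHom_nonZeroDivisor (maximalIdeal T) a ha))) ?_
    rw [pow_mul_frac, mul_one, pow_one]
  obtain ⟨x, y, hx, hxW, hp₀, h2⟩ := exists_reduction hdim hμ (hμ.two_le_of_not_regular hdim hs) {PUnit.unit}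
    (fun _ : PUnit.{u+1} => W) (fun _ _ => hW)
  have hxq : frac (maximalIdeal T) a ha 1 x (by rwa [pow_one]) ∉ q := hxW _ (Finset.mem_singleton_self _)
  have hx1 : x ∈ maximalIdeal T ^ 1 := by rwa [pow_one]
  obtain ⟨hx0, q₂, hq₂, hq₂m, e₂, he₂⟩ := exists_chart_change ha hx1 hna q hqm hxq e he
  have hp : RegPair M x y := regPair_of_dep2 hM.dep hx hp₀.mem₂ hx0 hp₀.rad
  obtain ⟨s, h⟩ := exists_sdata hdim hs hM hp h2
  haveI := hq₂
  haveI : IsDomain (Localization.AtPrime q₂) := e₂.injective.isDomain e₂.toRingHom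
  haveI : IsNoetherianRing (Localization.AtPrime q₂) := isNoetherianRing_of_ringEquiv _ e₂.symm
  have hd : ringKrullDim (Localization.AtPrime q₂) = 2 := (ringKrullDim_eq_of_ringEquiv e₂).trans hdim'
  have h1 := Can.of_ringEquiv e₂ hd (h.can_localization hM.ne_bot q₂ hq₂m hd)
  rw [Ideal.map_map, Ideal.map_map] at h1
  convert h1
  exact RingHom.ext fun r => (he₂ r).symm

end Groth.L05.PtChain

namespace Groth.L05.PtChain

open IsLocalRing

/-- A canonical ideal of a good ring transforms to a canonical ideal under a step. -/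
theorem can_step {T T' : Type u} [CommRing T] [IsLocalRing T] [IsNoetherianRing T] [CommRing T'] [IsLocalRing T']
    [IsNoetherianRing T'] {φ : T →+* T'} (hφ : IsPtStep φ) (hT : Good T) (hdim' : ringKrullDim T' = 2) {M : Ideal T}
    (hM : Can M) : Can (M.map φ) := by
  haveI := hT.isDomain
  haveI := hT.isNormal
  haveI := hφ.isDomain
  haveI := gpt_isNoetherian T
  haveI := gpt_isNoetherian T'
  haveI := gpt_isDomain T
  haveI := gpt_isDomain T'
  haveI := gpt_isNormal T
  haveI := gpt_infinite T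
  haveI := gpt_flat T
  haveI := gpt_flat T'
  haveI := gpt_isLocalHom T
  haveI := gpt_isLocalHom T'
  obtain ⟨φ₁, hφ₁, hcomm⟩ := gpt_step hφ
  obtain ⟨μ, hμ⟩ := hT.hilb
  have hd : ringKrullDim (GPt T) = 2 := (gpt_dim T).trans hT.dim
  have hd' : ringKrullDim (GPt T') = 2 := (gpt_dim T').trans hdim'
  have hμ₁ : HLin (GPt T) μ := hlin_ext (gpt_map_maximalIdeal T) hμ
  have hsing : ¬ IsRegularLocalRing (GPt T) := fun hreg => by
    have h1 := hμ.two_le_of_not_regular hT.dim hT.sing
    have h3 := IsRegularLocalRing.spanFinrank_maximalIdeal (R := GPt T)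
    rw [hμ₁.spanFinrank_eq, hd] at h3
    norm_cast at h3
    omega
  have h1 := can_step_core hφ₁ hd hsing hμ₁ hd' (hM.map (gpt_map_maximalIdeal T) hT.dim hd)
  rw [Ideal.map_map, hcomm, ← Ideal.map_map] at h1
  exact h1.of_map (gpt_map_maximalIdeal T')

end Groth.L05.PtChain
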