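import Groth.Agent.L05.PtChain.StepLemmas
import Groth.Agent.L05.PtChain.Can.Gen

/-! Steps lift to the generic extensions `T(X)`. -/

set_option autoImplicit false
set_option maxSynthPendingDepth 5
set_option linter.style.haveILetI false
set_option backward.isDefEq.respectTransparency false
set_option backward.isDefEq.respectTransparency.types false
set_option maxHeartbeats 800000

universe u

noncomputable section

namespace Groth.L05.PtChain

open IsLocalRing Groth.L13.BU Polynomial

variable {S S' : Type u} [CommRing S] [IsLocalRing S] [IsNoetherianRing S] [IsDomain S] [CommRing S'] [IsLocalRing S']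
  [IsNoetherianRing S'] {φ : S →+* S'}

theorem polyMax_comap (hl : ∀ r ∈ maximalIdeal S, φ r ∈ maximalIdeal S') [IsLocalHom φ] :
    ((maximalIdeal S).map (C : S →+* S[X])) = ((maximalIdeal S').map (C : S' →+* S'[X])).comap (mapRingHom φ) := by
  ext f
  rw [Ideal.mem_comap, Ideal.mem_map_C_iff, Ideal.mem_map_C_iff]
  refine forall_congr' fun i => ?_
  rw [coe_mapRingHom, coeff_map]
  exact ⟨hl _, fun h hu => h (hu.map φ)⟩

theorem gpt_step (hφ : IsPtStep φ) :
    ∃ φ₁ : GPt S →+* GPt S', IsPtStep φ₁ ∧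
      φ₁.comp (algebraMap S (GPt S)) = (algebraMap S' (GPt S')).comp φ := by
  classical
  haveI := hφ.isDomain
  haveI := hφ.isLocalHom
  haveI := gpt_isDomain S
  haveI := gpt_isDomain S'
  let φ₁ : GPt S →+* GPt S' := Localization.localRingHom _ _ (mapRingHom φ) (polyMax_comap fun _ => hφ.map_mem)
  have hφ₁ : ∀ f : S[X], φ₁ (algebraMap _ (GPt S) f) = algebraMap _ (GPt S') (Polynomial.map φ f) := fun f =>
    Localization.localRingHom_to_map _ _ _ _ f
  have hσ : ∀ r, φ₁ (algebraMap S (GPt S) r) = algebraMap S' (GPt S') (φ r) := fun r => by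
    rw [IsScalarTower.algebraMap_apply S S[X] (GPt S), hφ₁, algebraMap_eq, map_C,
      IsScalarTower.algebraMap_apply S' S'[X] (GPt S'), algebraMap_eq]
  refine ⟨φ₁, ?_, RingHom.ext hσ⟩
  have hjinj : Function.Injective (algebraMap S'[X] (GPt S')) :=
    IsLocalization.injective (GPt S') (Ideal.primeCompl_le_nonZeroDivisors ((maximalIdeal S').map (C : S' →+* S'[X])))
  have hinj : Function.Injective φ₁ := (injective_iff_map_eq_zero φ₁).2 fun z hz => by
    obtain ⟨⟨f, t⟩, rfl⟩ := IsLocalization.mk'_surjective ((maximalIdeal S).map (C : S →+* S[X])).primeCompl z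
    have h1 := congrArg (· * φ₁ (algebraMap _ (GPt S) (t : S[X]))) hz
    simp only [← map_mul, IsLocalization.mk'_spec, zero_mul] at h1
    rw [hφ₁] at h1
    have hf : f = 0 := Polynomial.map_injective φ hφ.injective
      ((hjinj (h1.trans (map_zero _).symm)).trans (Polynomial.map_zero φ).symm)
    simp only [hf]
    exact IsLocalization.mk'_zero _
  have hσmem : ∀ c ∈ maximalIdeal S', algebraMap S' (GPt S') c ∈ maximalIdeal (GPt S') := fun c hc =>
    gpt_map_maximalIdeal S' ▸ Ideal.mem_map_of_mem _ hc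
  have hloc : ∀ r ∈ maximalIdeal (GPt S), φ₁ r ∈ maximalIdeal (GPt S') := by
    rw [← gpt_map_maximalIdeal S]
    intro r hr
    exact (Ideal.map_le_iff_le_comap (K := (maximalIdeal (GPt S')).comap φ₁)).2
      (fun c hc => by rw [Ideal.mem_comap, Ideal.mem_comap, hσ]; exact hσmem _ (hφ.map_mem hc)) hr
  have hres : ((residue (GPt S')).comp φ₁).IsIntegral := by
    let g := (residue (GPt S')).comp φ₁
    letI : Algebra (GPt S) (ResidueField (GPt S')) := g.toAlgebra
    set A := integralClosure (GPt S) (ResidueField (GPt S'))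
    have hC : ∀ c : S', residue (GPt S') (algebraMap S' (GPt S') c) ∈ A := by
      intro c
      obtain ⟨p, hpm, hp⟩ := hφ.residue_isIntegral (residue S' c)
      refine ⟨p.map (algebraMap S (GPt S)), hpm.map _, ?_⟩
      rw [← hom_eval₂, residue_eq_zero_iff] at hp
      show eval₂ g _ _ = 0
      rw [eval₂_map, show g.comp (algebraMap S (GPt S)) = ((residue (GPt S')).comp (algebraMap S' (GPt S'))).comp φ from
        RingHom.ext fun r => congrArg (residue (GPt S')) (hσ r),
        show residue (GPt S') (algebraMap S' (GPt S') c) = ((residue (GPt S')).comp (algebraMap S' (GPt S'))) c from rfl,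
        ← hom_eval₂, RingHom.comp_apply, residue_eq_zero_iff]
      exact hσmem _ hp
    have hpoly : ∀ f : S'[X], residue (GPt S') (algebraMap _ (GPt S') f) ∈ A := by
      intro f
      induction f using Polynomial.induction_on' with
      | add p r hp hr => rw [map_add, map_add]; exact add_mem hp hr
      | monomial n c =>
        rw [← C_mul_X_pow_eq_monomial, map_mul, map_mul, map_pow, map_pow]
        refine mul_mem ?_ (pow_mem ?_ n)
        · rw [show algebraMap S'[X] (GPt S') (C c) = algebraMap S' (GPt S') c from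
            (IsScalarTower.algebraMap_apply S' S'[X] (GPt S') c).symm]
          exact hC c
        · have h1 : residue (GPt S') (algebraMap S'[X] (GPt S') X) = algebraMap (GPt S) _ (algebraMap S[X] (GPt S) X) := by
            show _ = residue (GPt S') (φ₁ _)
            rw [hφ₁, Polynomial.map_X]
          rw [h1]; exact Subalgebra.algebraMap_mem _ _
    intro z
    obtain ⟨z, rfl⟩ := residue_surjective z
    obtain ⟨⟨f, t⟩, rfl⟩ := IsLocalization.mk'_surjective ((maximalIdeal S').map (C : S' →+* S'[X])).primeCompl z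
    show _ ∈ A
    haveI : Algebra.IsIntegral (GPt S) A := ⟨fun ⟨w, hw⟩ =>
      (isIntegral_algHom_iff A.val Subtype.val_injective).1 hw⟩
    have hbot : (⊥ : Ideal A).IsMaximal := by
      refine Ideal.isMaximal_of_isIntegral_of_isMaximal_comap (R := GPt S) ⊥ ?_
      have h1 : (⊥ : Ideal A).comap (algebraMap (GPt S) A) = maximalIdeal (GPt S) := by
        refine le_antisymm (IsLocalRing.le_maximalIdeal (Ideal.comap_ne_top _ bot_ne_top)) fun r hr => ?_
        rw [Ideal.mem_comap, Ideal.mem_bot]
        exact Subtype.ext ((residue_eq_zero_iff _).2 (hloc r hr))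
      rw [h1]; infer_instance
    have htu : IsUnit (algebraMap _ (GPt S') (t : S'[X])) := IsLocalization.map_units (GPt S') t
    set τ : A := ⟨_, hpoly (t : S'[X])⟩
    have hτ : τ ∉ (⊥ : Ideal A) := fun h0 => (htu.map (residue (GPt S'))).ne_zero (congrArg Subtype.val h0)
    obtain ⟨w, i, hi, hw⟩ := hbot.exists_inv hτ
    rw [(Submodule.mem_bot _).1 hi, add_zero] at hw
    have h2 : residue (GPt S') (IsLocalization.mk' (GPt S') f t) =
        residue (GPt S') (algebraMap _ (GPt S') f) * (w : ResidueField (GPt S')) := by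
      rw [← IsLocalization.mk'_spec (GPt S') f t, map_mul, mul_assoc]
      have h3 := congrArg Subtype.val hw
      rw [Subalgebra.coe_mul, Subalgebra.coe_one, mul_comm] at h3
      rw [show residue (GPt S') (algebraMap _ (GPt S') (t : S'[X])) * (w : ResidueField (GPt S')) = 1 from h3, mul_one]
    rw [h2]
    exact mul_mem (hpoly f) w.2
  obtain ⟨a, ha, q, hq, hna, hqm, e, he⟩ := id hφ
  set σ := algebraMap S (GPt S)
  set σ' := algebraMap S' (GPt S')
  haveI := gpt_flat S
  haveI := gpt_isLocalHom S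
  have ha₁ : σ a ∈ maximalIdeal (GPt S) ^ 1 := by
    rw [pow_one, ← gpt_map_maximalIdeal S]; exact Ideal.mem_map_of_mem _ (by simpa using ha)
  have hna₁ : σ a ≠ 0 := fun h0 => hna (ext_injective (T' := GPt S) (h0.trans (map_zero σ).symm))
  obtain ⟨ψ, hψ⟩ := exists_chart_lift (maximalIdeal (GPt S)) (σ a) ha₁ φ₁
    (mem_nonZeroDivisors_of_ne_zero fun h0 => hna₁ (hinj (h0.trans (map_zero φ₁).symm))) (fun r hr => by
      rw [← gpt_map_maximalIdeal S] at hr
      have h1 : r ∈ (Ideal.span {φ₁ (σ a)}).comap φ₁ := (Ideal.map_le_iff_le_comap.2 fun c hc => by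
        rw [Ideal.mem_comap, Ideal.mem_comap, hσ, hσ, Ideal.mem_span_singleton]
        refine map_dvd σ' ⟨e (algebraMap _ _ (frac (maximalIdeal S) a ha 1 c (by rwa [pow_one]))), ?_⟩
        rw [← he c, ← he a, chartHom_eq _ _ ha c (by rwa [pow_one]), map_mul, map_mul]) hr
      exact Ideal.mem_span_singleton.1 h1)
  refine StepAt.isPtStep (x := σ a) (hx := ha₁) (chart_step_of hinj hloc hres ha₁ hna₁ ψ hψ ?_) hna₁
  let R : Set (GPt S') := Set.range ψ
  have hψapp : ∀ w, ψ (chartHom _ (σ a) ha₁ w) = φ₁ w := RingHom.congr_fun hψ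
  have hX : algebraMap _ (GPt S') (X : S'[X]) ∈ R := ⟨chartHom _ (σ a) ha₁ (algebraMap _ (GPt S) X), by
    rw [hψapp, hφ₁, Polynomial.map_X]⟩
  have hchart : ∀ c : Chart (maximalIdeal S) a ha, σ' (e (algebraMap _ (Localization.AtPrime q) c)) ∈ R := by
    intro c
    obtain ⟨n, d, hd, rfl⟩ := frac_surjective _ _ ha c
    refine ⟨frac _ (σ a) ha₁ n (σ d) (by
      rw [← gpt_map_maximalIdeal S, ← Ideal.map_pow]; exact Ideal.mem_map_of_mem _ hd), ?_⟩
    refine mul_left_cancel₀ (a := φ₁ (σ a) ^ n) (pow_ne_zero n fun h0 => hna₁ (hinj (h0.trans (map_zero φ₁).symm))) ?_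
    have h1 := congrArg (fun w => σ' (e (algebraMap _ (Localization.AtPrime q) w))) (pow_mul_frac _ _ ha n d hd)
    simp only [map_mul, map_pow, he] at h1
    rw [← hψapp, ← map_pow, ← map_mul, pow_mul_frac, hψapp, hσ, ← h1, map_pow, hψapp, hσ]
  have hfrac : ∀ c : S', ∃ k u, IsUnit (ψ u) ∧ σ' c * ψ u = ψ k := by
    intro c
    obtain ⟨⟨k, t, ht⟩, hkt⟩ := IsLocalization.mk'_surjective q.primeCompl (e.symm c)
    obtain ⟨k₁, hk₁⟩ := hchart k
    obtain ⟨u₁, hu₁⟩ := hchart t
    refine ⟨k₁, u₁, ?_, ?_⟩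
    · rw [hu₁]
      exact ((IsLocalization.map_units (Localization.AtPrime q) (⟨t, ht⟩ : q.primeCompl)).map e).map σ'
    · rw [hk₁, hu₁, ← map_mul]
      congr 1
      rw [← IsLocalization.mk'_spec (Localization.AtPrime q) k (⟨t, ht⟩ : q.primeCompl), map_mul]
      simp only [show IsLocalization.mk' (Localization.AtPrime q) k (⟨t, ht⟩ : q.primeCompl) = e.symm c from hkt,
        RingEquiv.apply_symm_apply]
  have hpolyR : ∀ f : S'[X], ∃ k u, IsUnit (ψ u) ∧ algebraMap _ (GPt S') f * ψ u = ψ k := by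
    intro f
    induction f using Polynomial.induction_on' with
    | add p r hp hr =>
      obtain ⟨k, u, hu, hk⟩ := hp
      obtain ⟨k', u', hu', hk'⟩ := hr
      exact ⟨k * u' + k' * u, u * u', by rw [map_mul]; exact hu.mul hu', by
        simp only [map_add, map_mul, ← hk, ← hk']; ring⟩
    | monomial n c =>
      obtain ⟨k, u, hu, hk⟩ := hfrac c
      obtain ⟨w, hw⟩ := hX
      refine ⟨k * w ^ n, u, hu, ?_⟩
      rw [← C_mul_X_pow_eq_monomial, map_mul, map_pow, map_mul, map_pow, hw, ← hk,
        show algebraMap S'[X] (GPt S') (C c) = σ' c from (IsScalarTower.algebraMap_apply S' S'[X] (GPt S') c).symm]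
      ring
  intro z
  obtain ⟨⟨f, t⟩, rfl⟩ := IsLocalization.mk'_surjective ((maximalIdeal S').map (C : S' →+* S'[X])).primeCompl z
  obtain ⟨k, u, hu, hk⟩ := hpolyR f
  obtain ⟨k', u', hu', hk'⟩ := hpolyR (t : S'[X])
  refine ⟨k * u', k' * u, ?_, ?_⟩
  · rw [map_mul, ← hk']; exact ((IsLocalization.map_units (GPt S') t).mul hu').mul hu
  · rw [map_mul, map_mul, ← hk, ← hk', ← IsLocalization.mk'_spec (GPt S') f t]
    ring

end Groth.L05.PtChain
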