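import Groth.Agent.L05.PtChain.Lift
import Groth.Agent.L05.PtChain.Present
import Groth.Agent.L05.RDP.ToLink

/-! No infinite chain starts at a complete double point. -/

set_option autoImplicit false
set_option maxSynthPendingDepth 5
set_option linter.style.haveILetI false
set_option backward.isDefEq.respectTransparency false
set_option backward.isDefEq.respectTransparency.types false
set_option maxHeartbeats 800000

universe u

noncomputable section

namespace Groth.L05.PtChain

open IsLocalRing Groth.L05.RDP Groth.L13.BU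

/-- A presentation of `T` as a double point. -/
structure Pres (T : Type u) [CommRing T] [IsLocalRing T] where
  R : Type u
  ring : CommRing R
  reg : IsRegularLocalRing R
  proj : R →+* T
  f : R
  dim : ringKrullDim R = 3
  surj : Function.Surjective proj
  ker : RingHom.ker proj = Ideal.span {f}
  sq : f ∈ maximalIdeal R ^ 2
  cube : f ∉ maximalIdeal R ^ 3

attribute [instance] Pres.ring Pres.reg

theorem Pres.ne_zero {T : Type u} [CommRing T] [IsLocalRing T] (P : Pres T) : P.f ≠ 0 := fun h =>
  P.cube (h ▸ zero_mem _)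

theorem cube_step {R R' : Type u} [CommRing R] [IsRegularLocalRing R] [CommRing R'] [IsRegularLocalRing R']
    {φ : R →+* R'} {f : R} {f' : R'} (L : Link φ f f') (h : f ∉ maximalIdeal R ^ 3) :
    f' ∉ maximalIdeal R' ^ 3 := by
  by_cases hD : DW f
  · exact stepD_notMem_cube L hD h
  · obtain ⟨a, ha⟩ := L.blow.exists_some_param
    exact (stepN L hD ha).2.notMem_cube

theorem Pres.exists_next {T T' : Type u} [CommRing T] [IsLocalRing T] [IsNoetherianRing T] [CommRing T']
    [IsLocalRing T'] [IsNoetherianRing T'] (P : Pres T) (hT : Good T) (hT' : Good T') {φ : T →+* T'}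
    (hφ : IsPtStep φ) : ∃ (P' : Pres T') (ψ : P.R →+* P'.R), Link ψ P.f P'.f := by
  haveI := hT.isDomain
  obtain ⟨a, ha, q, hq, hna, hqm, e, he⟩ := hφ
  obtain ⟨R', _, _, ψ, f', π', hπ', hker', L, -⟩ := exists_link P.dim P.proj P.surj P.ker P.sq P.cube a ha hna q hqm
    fun hreg => hT'.sing (IsRegularLocalRing.of_ringEquiv e)
  exact ⟨⟨R', inferInstance, inferInstance, e.toRingHom.comp π', f', L.blow.dim, e.surjective.comp hπ', by
    rw [← hker']
    exact RingHom.ker_comp_of_injective _ e.injective, L.sing, cube_step L P.cube⟩, ψ, L⟩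

variable {T : ℕ → Type u} [∀ n, CommRing (T n)] [∀ n, IsLocalRing (T n)] [∀ n, IsNoetherianRing (T n)]

/-- The presentations along a chain. -/
def presSeq (hgood : ∀ n, Good (T n)) {φ : ∀ n, T n →+* T (n + 1)} (hφ : ∀ n, IsPtStep (φ n)) (P₀ : Pres (T 0)) :
    ∀ n, Pres (T n)
  | 0 => P₀
  | n + 1 => ((presSeq hgood hφ P₀ n).exists_next (hgood n) (hgood (n + 1)) (hφ n)).choose

theorem false_of_double [IsAdicComplete (maximalIdeal (T 0)) (T 0)] (hgood : ∀ n, Good (T n))
    {φ : ∀ n, T n →+* T (n + 1)} (hφ : ∀ n, IsPtStep (φ n)) (h2 : HLin (T 0) 2) : False := by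
  haveI := (hgood 0).isDomain
  obtain ⟨R, _, _, π, f, hR, hπ, hker, hf2, hf3⟩ := exists_presentation (hgood 0).dim (hgood 0).sing h2
  let P := presSeq hgood hφ ⟨R, inferInstance, inferInstance, π, f, hR, hπ, hker, hf2, hf3⟩
  have hex : ∀ n, ∃ ψ : (P n).R →+* (P (n + 1)).R, Link ψ (P n).f (P (n + 1)).f := fun n =>
    ((P n).exists_next (hgood n) (hgood (n + 1)) (hφ n)).choose_spec
  choose ψ hψ using hex
  refine no_infinite_chain (A := fun n => (P n).R) (φ := ψ) (f := fun n => (P n).f) hψ (P 0).cube
    (fun n => ?_) fun n => ?_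
  · haveI := (hgood n).isDomain
    haveI := (hgood n).isNormal
    exact NP_of_normal (P n).dim (P n).ne_zero (P n).proj (P n).surj (P n).ker
  · haveI : IsDomain (AdicCompletion (maximalIdeal (T n)) (T n)) := (hgood n).cplDomain
    haveI : IsIntegrallyClosed (AdicCompletion (maximalIdeal (T n)) (T n)) := (hgood n).cplNormal
    exact NPCpl_of_normal (P n).dim (P n).ne_zero (P n).proj (P n).surj (P n).ker

end Groth.L05.PtChain
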