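import Groth.Agent.L05.PtChain.GPtStep
import Groth.Agent.L03.Akizuki
import Mathlib.RingTheory.OrderOfVanishing.Basic
import Mathlib.RingTheory.KrullDimension.NonZeroDivisors
import Mathlib.RingTheory.IntegralClosure.IsIntegralClosure.Basic

/-! Ideals become principal along a chain of point blow-ups. -/

set_option autoImplicit false
set_option maxSynthPendingDepth 5
set_option linter.style.haveILetI false
set_option backward.isDefEq.respectTransparency false
set_option backward.isDefEq.respectTransparency.types false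
set_option maxHeartbeats 800000

universe u

noncomputable section

namespace Groth.L05.PtChain

open IsLocalRing Groth.L13.BU Polynomial

/-- If neither `t` nor `t⁻¹` lies in the normal local ring `U`, the relations of `t` lie in `m[X]`. -/
theorem mem_map_C_of_aeval_eq_zero {U K : Type u} [CommRing U] [IsDomain U] [IsLocalRing U] [IsIntegrallyClosed U]
    [Field K] [Algebra U K] [IsFractionRing U K] (t : K) (h1 : ∀ c, algebraMap U K c ≠ t)
    (h2 : ∀ c, algebraMap U K c * t ≠ 1) : ∀ p : U[X], aeval t p = 0 → p ∈ (maximalIdeal U).map C := by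
  suffices ∀ n, ∀ p : U[X], p.natDegree ≤ n → aeval t p = 0 → p ∈ (maximalIdeal U).map C from
    fun p => this _ p le_rfl
  intro n
  induction n with
  | zero =>
    intro p hp he
    rw [eq_C_of_natDegree_le_zero hp, aeval_C, map_eq_zero_iff _ (IsFractionRing.injective U K)] at he
    rw [eq_C_of_natDegree_le_zero hp, he, map_zero]
    exact zero_mem _
  | succ n ih =>
    intro p hp he
    by_cases hp' : p.natDegree ≤ n
    · exact ih p hp' he
    have hdeg : p.natDegree = n + 1 := by omega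
    set a := p.leadingCoeff
    obtain ⟨b, hb⟩ := IsIntegrallyClosed.isIntegral_iff.1 (isIntegral_leadingCoeff_smul p t he)
    rw [Algebra.smul_def] at hb
    set q := p.eraseLead + C b * X ^ n
    have hqdeg : q.natDegree ≤ n := by
      refine (natDegree_add_le _ _).trans (max_le ?_ (natDegree_C_mul_X_pow_le b n))
      have := eraseLead_natDegree_le p
      omega
    have hqe : aeval t q = 0 := by
      rw [← eraseLead_add_C_mul_X_pow p, hdeg] at he
      simp only [q, map_add, map_mul, map_pow, aeval_C, aeval_X, hb] at he ⊢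
      rw [← he, pow_succ']
      ring
    have hq := Ideal.mem_map_C_iff.1 (ih q hqdeg hqe)
    have ha : a ∈ maximalIdeal U := by
      by_contra ha
      obtain ⟨u, hu⟩ := (IsLocalRing.notMem_maximalIdeal.1 ha)
      exact h1 (↑u⁻¹ * b) (by rw [map_mul, hb, show p.leadingCoeff = (u : U) from hu.symm, ← mul_assoc, ← map_mul, Units.inv_mul, map_one, one_mul])
    have hbm : b ∈ maximalIdeal U := by
      by_contra hbu
      obtain ⟨u, hu⟩ := IsLocalRing.notMem_maximalIdeal.1 hbu
      exact h2 (↑u⁻¹ * a) (by rw [map_mul, mul_assoc, show algebraMap U K a * t = algebraMap U K b from hb.symm, ← map_mul, ← hu, Units.inv_mul, map_one])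
    refine Ideal.mem_map_C_iff.2 fun i => ?_
    by_cases hi : i = n + 1
    · rw [hi, ← hdeg]; exact ha
    have h3 := hq i
    simp only [q, coeff_add, coeff_C_mul_X_pow] at h3
    rw [eraseLead_coeff_of_ne i (by rwa [hdeg])] at h3
    split_ifs at h3 with hin
    · simpa using sub_mem h3 hbm
    · simpa using h3

theorem IsPtStep.exists_frac {S S' : Type u} [CommRing S] [IsLocalRing S] [IsDomain S] [CommRing S'] [IsLocalRing S']
    {φ : S →+* S'} (h : IsPtStep φ) : ∀ z, ∃ r s, s ≠ 0 ∧ z * φ s = φ r := by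
  obtain ⟨a, ha, q, hq, hna, -, e, he⟩ := h
  intro z
  obtain ⟨⟨c, u, hu⟩, hcu⟩ := IsLocalization.mk'_surjective q.primeCompl (e.symm z)
  obtain ⟨n, d, hd, rfl⟩ := frac_surjective _ _ ha c
  obtain ⟨m, d', hd', rfl⟩ := frac_surjective _ _ ha u
  have hd0 : d' ≠ 0 := fun h0 => hu (by
    rw [frac_eq_zero _ _ _ hd' (k := 0) (by simp [h0])]; exact zero_mem _)
  refine ⟨a ^ m * d, a ^ n * d', mul_ne_zero (pow_ne_zero n hna) hd0, ?_⟩
  have h1 := congrArg e (IsLocalization.mk'_spec (Localization.AtPrime q)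
    (frac (maximalIdeal S) a ha n d hd) (⟨_, hu⟩ : q.primeCompl))
  rw [map_mul] at h1
  simp only [show IsLocalization.mk' (Localization.AtPrime q) (frac (maximalIdeal S) a ha n d hd)
    (⟨_, hu⟩ : q.primeCompl) = e.symm z from hcu, RingEquiv.apply_symm_apply] at h1
  rw [map_mul, map_mul, map_pow, map_pow, ← he d, ← he d', ← he a, ← pow_mul_frac _ _ ha n d hd,
    ← pow_mul_frac _ _ ha m d' hd']
  simp only [map_mul, map_pow, ← h1]
  ring

theorem IsPtStep.exists_dvd {S S' : Type u} [CommRing S] [IsLocalRing S] [CommRing S']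
    {φ : S →+* S'} (h : IsPtStep φ) :
    ∃ a ∈ maximalIdeal S, a ≠ 0 ∧ ∀ r ∈ maximalIdeal S, φ a ∣ φ r := by
  obtain ⟨a, ha, q, hq, hna, -, e, he⟩ := h
  exact ⟨a, by simpa using ha, hna, fun r hr => ⟨e (algebraMap _ _ (frac (maximalIdeal S) a ha 1 r (by rwa [pow_one]))), by
    rw [← he r, ← he a, chartHom_eq _ _ ha r (by rwa [pow_one]), map_mul, map_mul]⟩⟩

section Chain

variable {U : ℕ → Type u} [∀ n, CommRing (U n)]

/-- The composite of the chain. -/
def chainHom (φ : ∀ n, U n →+* U (n + 1)) : ∀ n, U 0 →+* U n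
  | 0 => RingHom.id _
  | n + 1 => (φ n).comp (chainHom φ n)

variable [∀ n, IsLocalRing (U n)] {φ : ∀ n, U n →+* U (n + 1)}

theorem chainHom_mem (hφ : ∀ n, IsPtStep (φ n)) (n : ℕ) :
    ∀ r ∈ maximalIdeal (U 0), chainHom φ n r ∈ maximalIdeal (U n) := by
  induction n with
  | zero => exact fun r hr => hr
  | succ n ih => exact fun r hr => (hφ n).map_mem (ih r hr)

variable [∀ n, IsDomain (U n)]

theorem chainHom_frac (hφ : ∀ n, IsPtStep (φ n)) (n : ℕ) :
    Function.Injective (chainHom φ n) ∧ ∀ z, ∃ r s, s ≠ 0 ∧ z * chainHom φ n s = chainHom φ n r := by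
  induction n with
  | zero => exact ⟨fun _ _ h => h, fun z => ⟨z, 1, one_ne_zero, by simp [chainHom]⟩⟩
  | succ n ih =>
    obtain ⟨hinj, hfr⟩ := ih
    refine ⟨(hφ n).injective.comp hinj, fun z => ?_⟩
    obtain ⟨r, s, hs, he⟩ := (hφ n).exists_frac z
    obtain ⟨r₁, s₁, hs₁, he₁⟩ := hfr r
    obtain ⟨r₂, s₂, hs₂, he₂⟩ := hfr s
    have hr₂ : r₂ ≠ 0 := by
      rintro rfl
      rw [map_zero] at he₂
      rcases mul_eq_zero.1 he₂ with h0 | h0
      exacts [hs h0, hs₂ (hinj (h0.trans (map_zero _).symm))]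
    refine ⟨r₁ * s₂, s₁ * r₂, mul_ne_zero hs₁ hr₂, ?_⟩
    show z * φ n (chainHom φ n (s₁ * r₂)) = φ n (chainHom φ n (r₁ * s₂))
    simp only [map_mul]
    rw [← he₁, ← he₂]
    simp only [map_mul]
    linear_combination (φ n) (chainHom φ n s₁) * (φ n) (chainHom φ n s₂) * he

theorem exists_embeddings (hφ : ∀ n, IsPtStep (φ n)) :
    ∃ j : ∀ n, U n →+* FractionRing (U 0), (∀ n, Function.Injective (j n)) ∧
      (∀ n, (j (n + 1)).comp (φ n) = j n) ∧ (∀ r, j 0 r = algebraMap _ _ r) ∧
      ∀ n r, j n (chainHom φ n r) = algebraMap _ _ r := by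
  classical
  set K := FractionRing (U 0)
  have hex : ∀ n, ∃ f : U n →+* K, Function.Injective f ∧ ∀ r, f (chainHom φ n r) = algebraMap _ K r := by
    intro n
    obtain ⟨hinj, hfr⟩ := chainHom_frac hφ n
    have hg : Function.Injective ((algebraMap (U n) (FractionRing (U n))).comp (chainHom φ n)) :=
      (IsFractionRing.injective (U n) (FractionRing (U n))).comp hinj
    let g : K →+* FractionRing (U n) := IsFractionRing.lift hg
    have hgapp : ∀ r, g (algebraMap _ K r) = algebraMap _ _ (chainHom φ n r) := fun r => IsFractionRing.lift_algebraMap hg r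
    have hgs : ∀ z : U n, algebraMap _ (FractionRing (U n)) z ∈ g.range := fun z => by
      obtain ⟨r, s, hs, he⟩ := hfr z
      refine ⟨algebraMap _ K r / algebraMap _ K s, ?_⟩
      rw [map_div₀, hgapp, hgapp, div_eq_iff, ← map_mul, he]
      exact (map_ne_zero_iff _ hg).2 hs
    let ge : K ≃+* FractionRing (U n) := RingEquiv.ofBijective g ⟨g.injective, fun z => by
      obtain ⟨a, b, -, rfl⟩ := IsFractionRing.div_surjective (A := U n) z
      obtain ⟨a', ha'⟩ := hgs a
      obtain ⟨b', hb'⟩ := hgs b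
      exact ⟨a' / b', by rw [map_div₀, ha', hb']⟩⟩
    refine ⟨ge.symm.toRingHom.comp (algebraMap _ _), ge.symm.injective.comp (IsFractionRing.injective _ _), fun r => ?_⟩
    show ge.symm _ = _
    rw [← hgapp]
    exact ge.symm_apply_apply _
  choose j hj hjr using hex
  refine ⟨j, hj, fun n => RingHom.ext fun z => ?_, fun r => hjr 0 r, hjr⟩
  obtain ⟨hinj, hfr⟩ := chainHom_frac hφ n
  obtain ⟨r, s, hs, he⟩ := hfr z
  have h1 := congrArg (j n) he
  have h2 := congrArg (fun w => j (n + 1) (φ n w)) he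
  simp only [map_mul, show ∀ r, φ n (chainHom φ n r) = chainHom φ (n + 1) r from fun _ => rfl, hjr] at h1 h2
  exact mul_right_cancel₀ ((map_ne_zero_iff _ (IsFractionRing.injective (U 0) K)).2 hs) (h2.trans h1.symm)

variable [∀ n, IsNoetherianRing (U n)] [∀ n, IsIntegrallyClosed (U n)]

theorem isFractionRing_of_embedding {A K : Type u} [CommRing A] [IsDomain A] [Field K] (j : A →+* K)
    (hj : Function.Injective j) (hs : ∀ z, ∃ r s, s ≠ 0 ∧ z * j s = j r) : @IsFractionRing A _ K _ j.toAlgebra := by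
  letI := j.toAlgebra
  refine ⟨fun s => ((map_ne_zero_iff j hj).2 (nonZeroDivisors.ne_zero s.2)).isUnit, fun z => ?_, fun {x y} h => ⟨1, by rw [hj h]⟩⟩
  obtain ⟨r, s, hs', he⟩ := hs z
  exact ⟨(r, ⟨s, mem_nonZeroDivisors_of_ne_zero hs'⟩), he⟩

/-- For two elements of the first ring, one divides the other eventually. -/
theorem exists_dvd_chain (hdim : ringKrullDim (U 0) = 2) (hφ : ∀ n, IsPtStep (φ n)) (f g : U 0) :
    ∃ N, chainHom φ N f ∣ chainHom φ N g ∨ chainHom φ N g ∣ chainHom φ N f := by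
  classical
  by_cases hf : f = 0
  · exact ⟨0, Or.inr (by rw [hf, map_zero]; exact dvd_zero _)⟩
  by_contra hno
  push Not at hno
  obtain ⟨j, hjinj, hjφ, hj0, hjc⟩ := exists_embeddings hφ
  set F := algebraMap (U 0) (FractionRing (U 0)) f
  set G := algebraMap (U 0) (FractionRing (U 0)) g
  have hF : F ≠ 0 := (map_ne_zero_iff _ (IsFractionRing.injective (U 0) (FractionRing (U 0)))).2 hf
  set t := G / F
  have htF : t * F = G := div_mul_cancel₀ G hF
  have h1 : ∀ n c, j n c ≠ t := fun n c hc => (hno n).1 ⟨c, hjinj n (by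
    rw [map_mul, hjc, hjc, hc, mul_comm]; exact htF.symm)⟩
  have h2 : ∀ n c, j n c * t ≠ 1 := fun n c hc => (hno n).2 ⟨c, hjinj n (by
    rw [map_mul, hjc, hjc]
    calc F = (j n c * t) * F := by rw [hc, one_mul]
      _ = G * j n c := by rw [mul_assoc, htF, mul_comm])⟩
  let e : ∀ n, (U n)[X] →+* (FractionRing (U 0)) := fun n => eval₂RingHom (j n) t
  have hker : ∀ n p, e n p = 0 → p ∈ (maximalIdeal (U n)).map (C : U n →+* (U n)[X]) := by
    intro n
    obtain ⟨hinj, hfr⟩ := chainHom_frac hφ n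
    letI := (j n).toAlgebra
    haveI : IsFractionRing (U n) (FractionRing (U 0)) := isFractionRing_of_embedding (j n) (hjinj n) fun z => by
      obtain ⟨r, s, hs, he⟩ := IsFractionRing.div_surjective (A := U 0) z
      refine ⟨chainHom φ n r, chainHom φ n s, fun h0 => nonZeroDivisors.ne_zero hs (hinj (h0.trans (map_zero _).symm)), ?_⟩
      rw [hjc, hjc, ← he, div_mul_cancel₀ _ ((map_ne_zero_iff _ (IsFractionRing.injective (U 0) (FractionRing (U 0)))).2 (nonZeroDivisors.ne_zero hs))]
    exact fun p hp => mem_map_C_of_aeval_eq_zero t (h1 n) (h2 n) p hp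
  choose a ham ha0 hadvd using fun n => (hφ n).exists_dvd
  let b : ℕ → (FractionRing (U 0)) := fun n => j n (a n)
  have hb0 : ∀ n, b n ≠ 0 := fun n => (map_ne_zero_iff _ (hjinj n)).2 (ha0 n)
  let π : ℕ → (FractionRing (U 0)) := fun k => ∏ i ∈ Finset.range k, b i
  have hπ0 : ∀ k, π k ≠ 0 := fun k => Finset.prod_ne_zero_iff.2 fun i _ => hb0 i
  have hfg : ∀ k, ∃ f' g' : U k, F = π k * j k f' ∧ G = π k * j k g' := by
    intro k
    induction k with
    | zero => exact ⟨f, g, by simp only [π, Finset.range_zero, Finset.prod_empty, one_mul]; exact (hj0 f).symm,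
        by simp only [π, Finset.range_zero, Finset.prod_empty, one_mul]; exact (hj0 g).symm⟩
    | succ k ih =>
      obtain ⟨f', g', hf', hg'⟩ := ih
      have hj' : j k g' = t * j k f' := mul_left_cancel₀ (hπ0 k) (by rw [← hg', mul_left_comm, ← hf', htF])
      have hfm : f' ∈ maximalIdeal (U k) := by
        by_contra hu
        obtain ⟨u, hu⟩ := IsLocalRing.notMem_maximalIdeal.1 hu
        exact h1 k (g' * ↑u⁻¹) (by rw [map_mul, hj', ← hu, mul_assoc, ← map_mul, Units.mul_inv, map_one, mul_one])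
      have hgm : g' ∈ maximalIdeal (U k) := by
        by_contra hu
        obtain ⟨u, hu⟩ := IsLocalRing.notMem_maximalIdeal.1 hu
        exact h2 k (f' * ↑u⁻¹) (by
          rw [map_mul, mul_right_comm, mul_comm (j k f'), ← hj', ← hu, ← map_mul, Units.mul_inv, map_one])
      obtain ⟨f₁, hf₁⟩ := hadvd k f' hfm
      obtain ⟨g₁, hg₁⟩ := hadvd k g' hgm
      have hc : ∀ z, j (k + 1) (φ k z) = j k z := fun z => RingHom.congr_fun (hjφ k) z
      refine ⟨f₁, g₁, ?_, ?_⟩
      · rw [hf', ← hc f', hf₁, map_mul, hc, show π (k + 1) = π k * b k from Finset.prod_range_succ _ _]; ring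
      · rw [hg', ← hc g', hg₁, map_mul, hc, show π (k + 1) = π k * b k from Finset.prod_range_succ _ _]; ring
  haveI := gpt_isNoetherian (U 0)
  haveI := gpt_isDomain (U 0)
  set P := (maximalIdeal (U 0)).map (C : U 0 →+* (U 0)[X])
  have hu : ∀ s : P.primeCompl, IsUnit (e 0 (s : (U 0)[X])) := fun s => isUnit_iff_ne_zero.2 fun h0 => s.2 (hker 0 _ h0)
  let E : GPt (U 0) →+* (FractionRing (U 0)) := IsLocalization.lift hu
  let R := GPt (U 0) ⧸ RingHom.ker E
  haveI hprime : (RingHom.ker E).IsPrime := RingHom.ker_isPrime E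
  letI : Algebra R (FractionRing (U 0)) := (RingHom.kerLift E).toAlgebra
  have hrel : E (algebraMap _ (GPt (U 0)) (C f * X - C g)) = 0 := by
    rw [IsLocalization.lift_eq]
    simp only [e, map_sub, map_mul, coe_eval₂RingHom, eval₂_C, eval₂_X]
    rw [hj0 f, hj0 g]
    show F * t - G = 0
    rw [← htF]
    ring
  have hne : algebraMap _ (GPt (U 0)) (C f * X - C g) ≠ 0 := by
    rw [map_ne_zero_iff _ (IsLocalization.injective (GPt (U 0)) (Ideal.primeCompl_le_nonZeroDivisors P))]
    intro h0
    have h3 := congrArg (fun p : (U 0)[X] => p.coeff 1) h0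
    simp [coeff_C] at h3
    exact hf h3
  haveI : Ring.KrullDimLE 1 R := by
    rw [Ring.krullDimLE_iff]
    have h3 := ringKrullDim_quotient_succ_le_of_nonZeroDivisor (mem_nonZeroDivisors_of_ne_zero hne)
    rw [gpt_dim, hdim] at h3
    have h4 : ringKrullDim R ≤ ringKrullDim (GPt (U 0) ⧸ Ideal.span {algebraMap _ (GPt (U 0)) (C f * X - C g)}) :=
      ringKrullDim_le_of_surjective (Ideal.Quotient.factor ((Ideal.span_singleton_le_iff_mem _).2 hrel))
        (Ideal.Quotient.factor_surjective _)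
    have h5 : ringKrullDim R + 1 ≤ (1 : ℕ) + 1 := (add_le_add_left h4 1).trans (h3.trans (by norm_num))
    exact (WithBot.add_le_add_iff_right' (by decide) (by decide)).1 h5
  haveI : IsFractionRing R (FractionRing (U 0)) := by
    refine isFractionRing_of_embedding (RingHom.kerLift E) (RingHom.kerLift_injective E) fun z => ?_
    obtain ⟨r, s, hs, hz⟩ := IsFractionRing.div_surjective (A := U 0) z
    have hval : ∀ c : U 0, RingHom.kerLift E (Ideal.Quotient.mk _ (algebraMap _ (GPt (U 0)) (C c))) = algebraMap _ (FractionRing (U 0)) c :=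
      fun c => by
        rw [RingHom.kerLift_mk, IsLocalization.lift_eq]
        simp only [e, coe_eval₂RingHom, eval₂_C, hj0]
    have hs0 : algebraMap _ (FractionRing (U 0)) s ≠ 0 := (map_ne_zero_iff _ (IsFractionRing.injective (U 0) (FractionRing (U 0)))).2 (nonZeroDivisors.ne_zero hs)
    refine ⟨Ideal.Quotient.mk _ (algebraMap _ (GPt (U 0)) (C r)), Ideal.Quotient.mk _ (algebraMap _ (GPt (U 0)) (C s)),
      fun h0 => hs0 ?_, ?_⟩
    · rw [← hval, h0, map_zero]
    · rw [hval, hval, ← hz, div_mul_cancel₀ _ hs0]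
  set x : R := Ideal.Quotient.mk _ (algebraMap _ (GPt (U 0)) (C f))
  have hxK : algebraMap R (FractionRing (U 0)) x = F := by
    show RingHom.kerLift E _ = _
    rw [RingHom.kerLift_mk, IsLocalization.lift_eq]
    simp only [e, coe_eval₂RingHom, eval₂_C, hj0]
    rfl
  have hx : x ≠ 0 := fun h0 => hF (by rw [← hxK, h0, map_zero])
  obtain ⟨N, hN⟩ : ∃ N : ℕ, Ring.ord R x < N :=
    ⟨(Ring.ord R x).toNat + 1, by
      conv_lhs => rw [← ENat.coe_toNat (Ring.ord_ne_top (mem_nonZeroDivisors_of_ne_zero hx))]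
      exact_mod_cast Nat.lt_succ_self _⟩
  -- the stage `N`
  have hcomp : ∀ p : (U 0)[X], e N (p.map (chainHom φ N)) = e 0 p := fun p => by
    simp only [e, coe_eval₂RingHom, eval₂_map]
    congr 1
    exact RingHom.ext fun r => (hjc N r).trans (hj0 r).symm
  have hmapP : ∀ s : (U 0)[X], s ∉ P → s.map (chainHom φ N) ∉ (maximalIdeal (U N)).map (C : U N →+* (U N)[X]) := by
    intro s hs hs'
    refine hs (Ideal.mem_map_C_iff.2 fun i => ?_)
    have h3 := Ideal.mem_map_C_iff.1 hs' i
    rw [coeff_map] at h3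
    by_contra hu
    exact h3 ((IsLocalRing.notMem_maximalIdeal.1 hu).map (chainHom φ N))
  let M : Submodule R (FractionRing (U 0)) :=
    { carrier := {z | ∃ p s, s ∉ (maximalIdeal (U N)).map (C : U N →+* (U N)[X]) ∧ z * e N s = e N p}
      add_mem' := by
        rintro z w ⟨p, s, hs, hp⟩ ⟨p', s', hs', hp'⟩
        exact ⟨p * s' + p' * s, s * s', fun h3 => (Ideal.IsPrime.mem_or_mem inferInstance h3).elim hs hs', by
          simp only [map_add, map_mul, ← hp, ← hp']; ring⟩
      zero_mem' := ⟨0, 1, fun h3 => (Ideal.IsPrime.ne_top inferInstance) ((Ideal.eq_top_iff_one _).2 h3), by simp⟩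
      smul_mem' := by
        rintro c z ⟨p, s, hs, hp⟩
        obtain ⟨c, rfl⟩ := Ideal.Quotient.mk_surjective c
        obtain ⟨⟨q, r⟩, rfl⟩ := IsLocalization.mk'_surjective P.primeCompl c
        refine ⟨q.map (chainHom φ N) * p, (r : (U 0)[X]).map (chainHom φ N) * s,
          fun h3 => (Ideal.IsPrime.mem_or_mem inferInstance h3).elim (hmapP _ r.2) hs, ?_⟩
        have h3 : E (IsLocalization.mk' _ q r) * e 0 r = e 0 q := by
          rw [mul_comm]; exact ((IsLocalization.lift_mk'_spec (hg := hu) q _ r).1 rfl).symm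
        rw [map_mul, map_mul, hcomp, hcomp, ← h3, ← hp, Algebra.smul_def]
        show RingHom.kerLift E (Ideal.Quotient.mk _ (IsLocalization.mk' _ q r)) * z * _ = _
        rw [RingHom.kerLift_mk]
        ring }
  have hMj : ∀ c : U N, j N c ∈ M := fun c =>
    ⟨C c, 1, fun h3 => (Ideal.IsPrime.ne_top inferInstance) ((Ideal.eq_top_iff_one _).2 h3), by simp [e]⟩
  let φN : ∀ i k : ℕ, U i →+* U (i + k) := fun i k =>
    Nat.rec (motive := fun k => U i →+* U (i + k)) (RingHom.id _) (fun k f => (φ (i + k)).comp f) k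
  have hup : ∀ i, i ≤ N → ∀ c : U i, c ∈ maximalIdeal (U i) →
      ∃ c' ∈ maximalIdeal (U N), j N c' = j i c := by
    intro i hi c hc
    obtain ⟨k, hk⟩ := Nat.exists_eq_add_of_le hi
    clear hi
    have key : ∀ k, ∃ c' ∈ maximalIdeal (U (i + k)), j (i + k) c' = j i c := by
      intro k
      induction k with
      | zero => exact ⟨c, hc, rfl⟩
      | succ k ih =>
        obtain ⟨c', hc', he⟩ := ih
        exact ⟨φ (i + k) c', (hφ (i + k)).map_mem hc', (RingHom.congr_fun (hjφ (i + k)) c').trans he⟩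
    subst hk
    exact key k
  have hbinv : ∀ i ≤ N, (b i)⁻¹ ∉ M := by
    rintro i hi ⟨p, s, hs, hp⟩
    obtain ⟨c', hc', he⟩ := hup i hi (a i) (ham i)
    have h3 : e N (s - C c' * p) = 0 := by
      simp only [map_sub, map_mul, ← hp]
      rw [show e N (C c') = b i by simp [e, he, b], ← mul_assoc, mul_inv_cancel₀ (hb0 i), one_mul, sub_self]
    have h4 := hker N _ h3
    refine hs ?_
    rw [show s = (s - C c' * p) + C c' * p by ring]
    exact add_mem h4 (Ideal.mul_mem_right _ _ (Ideal.mem_map_of_mem _ hc'))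
  -- the submodules
  let L : ℕ → Submodule R (FractionRing (U 0)) := fun k => M.map ((π k) • (LinearMap.id : (FractionRing (U 0)) →ₗ[R] (FractionRing (U 0))))
  have hmulM : ∀ z ∈ M, ∀ w ∈ M, z * w ∈ M := by
    rintro z ⟨p, s, hs, hp⟩ w ⟨p', s', hs', hp'⟩
    exact ⟨p * p', s * s', fun h3 => (Ideal.IsPrime.mem_or_mem inferInstance h3).elim hs hs', by
      simp only [map_mul, ← hp, ← hp']; ring⟩
  have hbM : ∀ i ≤ N, b i ∈ M := fun i hi => by
    obtain ⟨c', -, he⟩ := hup i hi (a i) (ham i)
    show j i (a i) ∈ M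
    rw [← he]; exact hMj c'
  have hanti : ∀ k < N, L (k + 1) < L k := by
    intro k hk
    refine lt_of_le_not_ge ?_ fun hle => ?_
    · rintro z ⟨w, hw, rfl⟩
      refine ⟨b k * w, hmulM _ (hbM k hk.le) _ hw, ?_⟩
      show π k * (b k * w) = π (k + 1) * w
      rw [show π (k + 1) = π k * b k from Finset.prod_range_succ _ _, mul_assoc]
    · obtain ⟨w, hw, he⟩ := hle (show π k * 1 ∈ L k from ⟨1, by simpa using hMj 1, rfl⟩)
      change π (k + 1) * w = π k * 1 at he
      rw [show π (k + 1) = π k * b k from Finset.prod_range_succ _ _, mul_assoc] at he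
      exact hbinv k hk.le (inv_eq_of_mul_eq_one_right (mul_left_cancel₀ (hπ0 k) he) ▸ hw)
  let ι : M →ₗ[R] (FractionRing (U 0)) := M.subtype
  have hlen := Groth.L03.Akizuki.length_le (K := FractionRing (U 0)) ι M.subtype_injective hx
  rw [Module.finrank_self, Nat.cast_one, one_mul] at hlen
  set X' := Groth.L03.Akizuki.xSub x M
  have hle0 : ∀ k ≤ N, L k ≤ M := by
    intro k hk
    induction k with
    | zero =>
      rintro z ⟨w, hw, rfl⟩
      show π 0 * w ∈ M
      simpa [π] using hw
    | succ k ih => exact (hanti k hk).le.trans (ih (by omega))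
  have hFL : ∀ k ≤ N, ∀ w ∈ M, F * w ∈ L k := by
    intro k hk w hw
    obtain ⟨f', g', hf', -⟩ := hfg N
    have h3 : F * w ∈ L N := ⟨j N f' * w, hmulM _ (hMj f') _ hw, by rw [hf', mul_assoc]; rfl⟩
    have hmono : ∀ m, k ≤ m → m ≤ N → L m ≤ L k := by
      intro m hkm
      induction m, hkm using Nat.le_induction with
      | base => exact fun _ => le_rfl
      | succ m _ ih => exact fun hm => (hanti m hm).le.trans (ih (by omega))
    exact hmono N hk le_rfl h3
  let Q : ℕ → Submodule R (M ⧸ X') := fun k => ((L k).comap M.subtype).map X'.mkQ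
  have hQ : ∀ k ≤ N, (Q k).comap X'.mkQ = (L k).comap M.subtype := fun k hk => by
    rw [Submodule.comap_map_mkQ, sup_eq_right]
    rintro _ ⟨w, rfl⟩
    show ((x • w : M) : (FractionRing (U 0))) ∈ L k
    rw [Submodule.coe_smul, Algebra.smul_def, hxK]
    exact hFL k hk w w.2
  have hQlt : ∀ k < N, Q (k + 1) < Q k := by
    intro k hk
    refine lt_of_le_of_ne (Submodule.map_mono (Submodule.comap_mono (hanti k hk).le)) fun heq => (hanti k hk).ne ?_
    have h3 := congrArg (Submodule.comap X'.mkQ) heq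
    rw [hQ _ hk, hQ _ hk.le] at h3
    have h4 := congrArg (Submodule.map M.subtype) h3
    rwa [Submodule.map_comap_subtype, Submodule.map_comap_subtype, inf_eq_right.2 (hle0 _ hk),
      inf_eq_right.2 (hle0 _ hk.le)] at h4
  let p : LTSeries (Submodule R (M ⧸ X')) := ⟨N, fun i => Q (N - i.val), fun i => by
    have hi := i.isLt
    show Q (N - i.val) < Q (N - (i.val + 1))
    have h3 := hQlt (N - (i.val + 1)) (by omega)
    rwa [show N - (i.val + 1) + 1 = N - i.val by omega] at h3⟩
  have hNlen : (N : ℕ∞) ≤ Module.length R (M ⧸ X') := by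
    have h3 : ((N : ℕ) : WithBot ℕ∞) ≤ Order.krullDim (Submodule R (M ⧸ X')) := Order.LTSeries.length_le_krullDim p
    rw [← Module.coe_length] at h3
    exact_mod_cast h3
  exact absurd (hNlen.trans hlen) (not_le.2 hN)

theorem exists_principal_chain' (hdim : ∀ n, ringKrullDim (U n) = 2) (hφ : ∀ n, IsPtStep (φ n)) (M : Ideal (U 0)) :
    ∃ N, (M.map (chainHom φ N)).IsPrincipal := by
  classical
  obtain ⟨s, rfl⟩ := IsNoetherian.noetherian M
  induction s using Finset.induction_on with
  | empty => exact ⟨0, ⟨⟨0, by simp [chainHom]⟩⟩⟩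
  | insert c s hcs ih =>
    obtain ⟨N, ⟨g, hg⟩⟩ := ih
    -- shift the chain by `N`
    let U' : ℕ → Type u := fun k => U (N + k)
    obtain ⟨k, hk⟩ := exists_dvd_chain (U := U') (φ := fun k => φ (N + k)) (hdim N) (fun k => hφ (N + k)) g
      (chainHom φ N c)
    have hc : ∀ k r, chainHom (U := U') (fun k => φ (N + k)) k (chainHom φ N r) = chainHom φ (N + k) r := by
      intro k
      induction k with
      | zero => exact fun r => rfl
      | succ k ih => exact fun r => congrArg (φ (N + k)) (ih r)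
    refine ⟨N + k, ?_⟩
    have hsp : (Ideal.span ((insert c s : Finset (U 0)) : Set (U 0))).map (chainHom φ (N + k)) =
        Ideal.span {chainHom φ (N + k) c} ⊔
          Ideal.span {chainHom (U := U') (fun k => φ (N + k)) k g} := by
      rw [Finset.coe_insert, Ideal.span_insert, Ideal.map_sup, Ideal.map_span, Set.image_singleton]
      congr 1
      rw [show chainHom φ (N + k) = (chainHom (U := U') (fun k => φ (N + k)) k).comp (chainHom φ N) from
          (RingHom.ext (hc k)).symm, ← Ideal.map_map]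
      rw [show Ideal.map (chainHom φ N) (Ideal.span (s : Set (U 0))) = Ideal.span {g} from hg, Ideal.map_span,
        Set.image_singleton]
    rw [hsp]
    rw [hc] at hk
    rcases hk with hd | hd
    · exact ⟨⟨_, sup_eq_right.2 (Ideal.span_singleton_le_span_singleton.2 hd)⟩⟩
    · exact ⟨⟨_, sup_eq_left.2 (Ideal.span_singleton_le_span_singleton.2 hd)⟩⟩

end Chain

end Groth.L05.PtChain
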