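import Groth.Agent.L05.PtChain.CanStep
import Groth.Agent.L05.PtChain.Principalise
import Groth.Agent.L05.PtChain.Hyper

/-! There is no infinite chain of point blow-ups of good two dimensional rings. -/

set_option autoImplicit false
set_option maxSynthPendingDepth 5
set_option linter.style.haveILetI false
set_option backward.isDefEq.respectTransparency false
set_option backward.isDefEq.respectTransparency.types false
set_option maxHeartbeats 800000

universe u

noncomputable section

namespace Groth.L05.PtChain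

open IsLocalRing
open Groth.L05.RatPow (IsCplMap isCplMap_algebraMap)

theorem isAdicComplete_cpl (A : Type u) [CommRing A] [IsNoetherianRing A] [IsLocalRing A] :
    IsAdicComplete (maximalIdeal (EGA4.Cpl A)) (EGA4.Cpl A) := by
  rw [show maximalIdeal (EGA4.Cpl A) = (maximalIdeal A).map (algebraMap A (EGA4.Cpl A)) from
    AdicCompletion.maximalIdeal_eq_map_of_fg (IsNoetherian.noetherian _)]
  exact (IsAdicComplete.map_algebraMap_iff _ (EGA4.Cpl A)).mpr (AdicCompletion.isAdicComplete (IsNoetherian.noetherian _))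

/-- A good ring whose canonical ideal is principal is a double point. -/
theorem hlin_two_of_can_top {T : Type u} [CommRing T] [IsLocalRing T] [IsNoetherianRing T] (hT : Good T)
    (hc : Can (⊤ : Ideal T)) {μ : ℕ} (hμ : HLin T μ) : μ = 2 := by
  have hμ2 := hμ.two_le_of_not_regular hT.dim hT.sing
  haveI := hT.isDomain
  haveI := hT.isNormal
  haveI := gpt_isNoetherian T
  haveI := gpt_isDomain T
  haveI := gpt_isNormal T
  haveI := gpt_infinite T
  haveI := gpt_flat T
  haveI := gpt_isLocalHom T
  have hd : ringKrullDim (GPt T) = 2 := (gpt_dim T).trans hT.dim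
  have hμ₁ : HLin (GPt T) μ := hlin_ext (gpt_map_maximalIdeal T) hμ
  have hc₁ : Can (⊤ : Ideal (GPt T)) := by
    have := hc.map (gpt_map_maximalIdeal T) hT.dim hd
    rwa [Ideal.map_top] at this
  have hsing : ¬ IsRegularLocalRing (GPt T) := fun hreg => by
    have h3 := IsRegularLocalRing.spanFinrank_maximalIdeal (R := GPt T)
    rw [hμ₁.spanFinrank_eq, hd] at h3
    norm_cast at h3
    omega
  obtain ⟨x, y, -, -, hp, h2⟩ := exists_reduction hd hμ₁ hμ2 (∅ : Finset PUnit.{u+1})
    (fun _ => (⊥ : Submodule (GPt T) (maximalIdeal (GPt T)))) (by simp)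
  obtain ⟨s, h⟩ := exists_sdata hd hsing hc₁ hp h2
  have hm : maximalIdeal (GPt T) = Ideal.span {x, y, s} := by
    refine le_antisymm (fun r hr => ?_) (Ideal.span_le.2 ?_)
    · have h1 := h.hsoc (h.mul_le_soc' (show r ∈ maximalIdeal (GPt T) * ⊤ by rwa [Ideal.mul_top]))
      rw [Ideal.mul_top] at h1
      have he : ({x, y, s} : Set (GPt T)) = {x, y} ∪ {s} := by ext; simp; tauto
      rwa [he, Ideal.span_union]
    · rintro w (rfl | rfl | rfl)
      exacts [hp.mem₁, hp.mem₂, h.s_mem_max]
  have h3 : (maximalIdeal (GPt T)).spanFinrank ≤ 3 := by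
    rw [hm]
    exact (Submodule.spanFinrank_span_le_ncard_of_finite (Set.toFinite _)).trans
      ((Set.ncard_insert_le _ _).trans (Nat.succ_le_succ ((Set.ncard_insert_le _ _).trans (by simp))))
  rw [hμ₁.spanFinrank_eq] at h3
  omega

/-- A good ring over a ring of the chain. -/
structure Over (S : Type u) [CommRing S] [IsLocalRing S] where
  T : Type u
  ring : CommRing T
  loc : IsLocalRing T
  noeth : IsNoetherianRing T
  ι : S →+* T
  cpl : IsCplMap ι
  good : Good T

attribute [instance] Over.ring Over.loc Over.noeth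

theorem Over.exists_next {S S' : Type u} [CommRing S] [IsLocalRing S] [IsNoetherianRing S] [CommRing S']
    [IsLocalRing S'] [IsNoetherianRing S'] (hS : Good S) (hS' : Good S') {φ : S →+* S'} (hφ : IsPtStep φ)
    (O : Over S) : ∃ (O' : Over S') (ψ : O.T →+* O'.T), IsPtStep ψ := by
  haveI := hS.isDomain
  haveI := O.good.isDomain
  obtain ⟨T', _, _, _, ψ, ι', hψ, hι', -⟩ := exists_lift hφ O.cpl
  exact ⟨⟨T', inferInstance, inferInstance, inferInstance, ι', hι', cplMap_good hι' hS'⟩, ψ, hψ⟩

section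

variable {U : ℕ → Type u} [∀ n, CommRing (U n)] [∀ n, IsLocalRing (U n)] [∀ n, IsNoetherianRing (U n)]

/-- The completed chain. -/
def overSeq (hgood : ∀ n, Good (U n)) {φ : ∀ n, U n →+* U (n + 1)} (hφ : ∀ n, IsPtStep (φ n)) : ∀ n, Over (U n)
  | 0 => ⟨EGA4.Cpl (U 0), inferInstance, inferInstance, inferInstance, algebraMap _ _, isCplMap_algebraMap,
      cplMap_good isCplMap_algebraMap (hgood 0)⟩
  | n + 1 => ((overSeq hgood hφ n).exists_next (hgood n) (hgood (n + 1)) (hφ n)).choose

theorem exists_complete_chain (hgood : ∀ n, Good (U n)) {φ : ∀ n, U n →+* U (n + 1)} (hφ : ∀ n, IsPtStep (φ n)) :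
    ∃ (T : ℕ → Type u) (_ : ∀ n, CommRing (T n)) (_ : ∀ n, IsLocalRing (T n)) (_ : ∀ n, IsNoetherianRing (T n))
      (ψ : ∀ n, T n →+* T (n + 1)), IsAdicComplete (maximalIdeal (T 0)) (T 0) ∧ (∀ n, Good (T n)) ∧
      (∀ n, IsPtStep (ψ n)) ∧ (∀ μ, HLin (U 0) μ → HLin (T 0) μ) :=
  ⟨fun n => (overSeq hgood hφ n).T, fun n => inferInstance, fun n => inferInstance, fun n => inferInstance,
    fun n => ((overSeq hgood hφ n).exists_next (hgood n) (hgood (n + 1)) (hφ n)).choose_spec.choose,
    isAdicComplete_cpl (U 0), fun n => (overSeq hgood hφ n).good,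
    fun n => ((overSeq hgood hφ n).exists_next (hgood n) (hgood (n + 1)) (hφ n)).choose_spec.choose_spec,
    fun _ h => cplMap_hlin isCplMap_algebraMap h⟩

/-- A double point does not start an infinite chain. -/
theorem false_of_double' (hgood : ∀ n, Good (U n)) {φ : ∀ n, U n →+* U (n + 1)} (hφ : ∀ n, IsPtStep (φ n))
    (h2 : HLin (U 0) 2) : False := by
  obtain ⟨T, _, _, _, ψ, hc, hg, hψ, hh⟩ := exists_complete_chain hgood hφ
  haveI := hc
  exact false_of_double hg hψ (hh 2 h2)

/-- There is no infinite chain of good rings. -/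
theorem no_chain (hgood : ∀ n, Good (U n)) {φ : ∀ n, U n →+* U (n + 1)} (hφ : ∀ n, IsPtStep (φ n)) : False := by
  obtain ⟨T, _, _, _, ψ, hc, hg, hψ, -⟩ := exists_complete_chain hgood hφ
  haveI : ∀ n, IsDomain (T n) := fun n => (hg n).isDomain
  haveI : ∀ n, IsIntegrallyClosed (T n) := fun n => (hg n).isNormal
  haveI := hc
  obtain ⟨M, hM⟩ := exists_can (T := T 0) (hg 0).dim
  obtain ⟨N, hN⟩ := exists_principal_chain' (φ := ψ) (fun n => (hg n).dim) hψ M
  have hcan : ∀ n, Can (M.map (chainHom ψ n)) := by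
    intro n
    induction n with
    | zero => rwa [show chainHom ψ 0 = RingHom.id _ from rfl, Ideal.map_id]
    | succ n ih =>
      show Can (M.map ((ψ n).comp (chainHom ψ n)))
      rw [← Ideal.map_map]
      exact can_step (hψ n) (hg n) (hg (n + 1)).dim ih
  obtain ⟨g, hg'⟩ := hN
  obtain ⟨μ, hμ⟩ := (hg N).hilb
  have h2 := hlin_two_of_can_top (hg N) ((hcan N).top_of_principal (hg N).dim hg') hμ
  exact false_of_double' (U := fun k => T (N + k)) (fun k => hg (N + k)) (φ := fun k => ψ (N + k))
    (fun k => hψ (N + k)) (h2 ▸ hμ)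

end

end Groth.L05.PtChain
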