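import Groth.Agent.L05.PtChain.Basic
import Mathlib.RingTheory.Filtration
import Mathlib.RingTheory.Nakayama

/-! Steps of point blow-ups lift to completions. -/

set_option autoImplicit false
set_option maxSynthPendingDepth 5
set_option linter.style.haveILetI false
set_option backward.isDefEq.respectTransparency false
set_option backward.isDefEq.respectTransparency.types false
set_option maxHeartbeats 1000000

universe u

noncomputable section

namespace Groth.L05.PtChain

open IsLocalRing Groth.L13.BU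
open Groth.L05.RatPow (IsCplMap cplChart mem_cpl ι_ne_zero chart_isDomain exists_comparison approx_surj approx_inj
  comparison_chartHom finiteType_chartHom)

theorem isNoetherianRing_chart {S : Type u} [CommRing S] [IsNoetherianRing S] (I : Ideal S) (a : S) (ha : a ∈ I ^ 1) :
    IsNoetherianRing (Chart I a ha) := by
  letI : Algebra S (Chart I a ha) := (chartHom I a ha).toAlgebra
  haveI : Algebra.FiniteType S (Chart I a ha) := finiteType_chartHom I a ha
  exact Algebra.FiniteType.isNoetherianRing S _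

theorem IsPtStep.isNoetherianRing {S S' : Type u} [CommRing S] [IsLocalRing S] [IsNoetherianRing S] [CommRing S']
    {φ : S →+* S'} (h : IsPtStep φ) : IsNoetherianRing S' := by
  obtain ⟨a, ha, q, hq, -, -, e, -⟩ := h
  haveI := isNoetherianRing_chart (maximalIdeal S) a ha
  haveI : IsNoetherianRing (Localization.AtPrime q) := IsLocalization.isNoetherianRing q.primeCompl _ inferInstance
  exact isNoetherianRing_of_ringEquiv _ e

theorem IsPtStep.isLocalRing {S S' : Type u} [CommRing S] [IsLocalRing S] [CommRing S']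
    {φ : S →+* S'} (h : IsPtStep φ) : IsLocalRing S' := by
  obtain ⟨a, ha, q, hq, -, -, e, -⟩ := h
  exact e.isLocalRing

/-- A map which is bijective modulo all powers of the maximal ideals is a completion map. -/
theorem isCplMap_of {A B : Type u} [CommRing A] [IsLocalRing A] [IsNoetherianRing A] [CommRing B] [IsLocalRing B]
    [IsNoetherianRing B] (ι : A →+* B) (hle : (maximalIdeal A).map ι ≤ maximalIdeal B)
    (hsurj : ∀ N (b : B), ∃ r, b - ι r ∈ maximalIdeal B ^ N)
    (hinj : ∀ N (r : A), ι r ∈ maximalIdeal B ^ N → r ∈ maximalIdeal A ^ N) : IsCplMap ι := by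
  have hm : (maximalIdeal A).map ι = maximalIdeal B := by
    refine le_antisymm hle (Submodule.le_of_le_smul_of_le_jacobson_bot (I := maximalIdeal B)
      (Ideal.fg_of_isNoetherianRing _) (IsLocalRing.maximalIdeal_le_jacobson _) fun b hb => ?_)
    obtain ⟨r, hr⟩ := hsurj 2 b
    rw [show b = ι r + (b - ι r) by ring]
    refine add_mem (Submodule.mem_sup_left (Ideal.mem_map_of_mem ι ?_)) (Submodule.mem_sup_right ?_)
    · rw [← pow_one (maximalIdeal A)]
      refine hinj 1 r ?_
      rw [pow_one, show ι r = b - (b - ι r) by ring]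
      exact sub_mem hb (Ideal.pow_le_self two_ne_zero hr)
    · rw [smul_eq_mul, ← sq]; exact hr
  refine ⟨fun n => by rw [Ideal.map_pow, hm], fun J x hx => ?_, fun n y => hsurj n y⟩
  have key : ∀ N, x ∈ J ⊔ maximalIdeal A ^ N := by
    intro N
    have : ∀ y ∈ J.map ι, ∃ j ∈ J, y - ι j ∈ maximalIdeal B ^ N := by
      intro y hy
      induction hy using Submodule.span_induction with
      | mem y hy => obtain ⟨j, hj, rfl⟩ := hy; exact ⟨j, hj, by simp⟩
      | zero => exact ⟨0, zero_mem _, by simp⟩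
      | add y z _ _ hy hz =>
        obtain ⟨j, hj, hj'⟩ := hy
        obtain ⟨k, hk, hk'⟩ := hz
        exact ⟨j + k, add_mem hj hk, by rw [map_add, add_sub_add_comm]; exact add_mem hj' hk'⟩
      | smul c y _ hy =>
        obtain ⟨j, hj, hj'⟩ := hy
        obtain ⟨r, hr⟩ := hsurj N c
        refine ⟨r * j, Ideal.mul_mem_left _ _ hj, ?_⟩
        rw [smul_eq_mul, map_mul, show c * y - ι r * ι j = c * (y - ι j) + (c - ι r) * ι j by ring]
        exact add_mem (Ideal.mul_mem_left _ _ hj') (Ideal.mul_mem_right _ _ hr)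
    obtain ⟨j, hj, hj'⟩ := this _ hx
    rw [← map_sub] at hj'
    rw [show x = j + (x - j) by ring]
    exact add_mem (Submodule.mem_sup_left hj) (Submodule.mem_sup_right (hinj N _ hj'))
  by_cases hJ : J = ⊤
  · rw [hJ]; trivial
  haveI : IsLocalRing (A ⧸ J) := Groth.L01.isLocalRing_quotient hJ
  have h0 : Ideal.Quotient.mk J x ∈ (⊥ : Ideal (A ⧸ J)) := by
    rw [← Ideal.iInf_pow_eq_bot_of_isLocalRing ((maximalIdeal A).map (Ideal.Quotient.mk J))
      (fun h => (maximalIdeal.isMaximal (A ⧸ J)).ne_top (top_le_iff.1 (h ▸ (Groth.L01.maximalIdeal_quotient_eq_map (I := J)).ge)))]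
    refine Submodule.mem_iInf _ |>.2 fun N => ?_
    rw [← Ideal.map_pow]
    have := Ideal.mem_map_of_mem (Ideal.Quotient.mk J) (key N)
    rwa [Ideal.map_sup, Ideal.map_quotient_self, bot_sup_eq] at this
  exact Ideal.Quotient.eq_zero_iff_mem.1 ((Submodule.mem_bot _).1 h0)

/-- A step lifts along a completion map. -/
theorem exists_lift {S S' : Type u} [CommRing S] [IsLocalRing S] [IsNoetherianRing S] [IsDomain S] [CommRing S']
    [IsLocalRing S'] [IsNoetherianRing S'] {φ : S →+* S'} (hφ : IsPtStep φ) {T : Type u} [CommRing T] [IsLocalRing T]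
    [IsNoetherianRing T] [IsDomain T] {ι : S →+* T} (hι : IsCplMap ι) :
    ∃ (T' : Type u) (_ : CommRing T') (_ : IsLocalRing T') (_ : IsNoetherianRing T') (ψ : T →+* T') (ι' : S' →+* T'),
      IsPtStep ψ ∧ IsCplMap ι' ∧ ι'.comp φ = ψ.comp ι := by
  obtain ⟨a, ha, q, hq, hna, hqm, e, he⟩ := hφ
  have ha' : ι a ∈ maximalIdeal T ^ 1 := mem_cpl hι ha
  haveI := chart_isDomain (maximalIdeal S) a ha hna
  haveI : IsDomain (cplChart hι a ha) := chart_isDomain _ _ ha' (ι_ne_zero hι a hna)
  obtain ⟨ν, hν⟩ := exists_comparison hι a ha hna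
  set α := chartHom (maximalIdeal S) a ha a
  have hαq : α ∈ q := hqm (by simpa using ha)
  set q' := q.map ν
  have happ : ∀ N z, ∃ w, z - ν w ∈ (q' ^ N : Ideal (cplChart hι a ha)) := fun N z => by
    obtain ⟨w, hw⟩ := approx_surj hι a ha hna hν N z
    refine ⟨w, ?_⟩
    rw [← Ideal.map_pow]
    exact (Ideal.span_le.2 (Set.singleton_subset_iff.2 (by
      rw [← map_pow]; exact Ideal.mem_map_of_mem _ (Ideal.pow_mem_pow hαq N)))) hw
  have hback : ∀ N w, ν w ∈ q' ^ N → w ∈ q ^ N := fun N w hw => by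
    rw [← Ideal.map_pow] at hw
    have key : ∀ y ∈ (q ^ N).map ν, ∃ w₁ ∈ q ^ N, y - ν w₁ ∈ Ideal.span {ν α ^ N} := by
      intro y hy
      induction hy using Submodule.span_induction with
      | mem y hy => obtain ⟨w₁, h1, rfl⟩ := hy; exact ⟨w₁, h1, by simp⟩
      | zero => exact ⟨0, zero_mem _, by simp⟩
      | add y z _ _ hy hz =>
        obtain ⟨w₁, h1, h1'⟩ := hy
        obtain ⟨w₂, h2, h2'⟩ := hz
        exact ⟨w₁ + w₂, add_mem h1 h2, by rw [map_add, add_sub_add_comm]; exact add_mem h1' h2'⟩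
      | smul c y _ hy =>
        obtain ⟨w₁, h1, h1'⟩ := hy
        obtain ⟨c₁, hc₁⟩ := approx_surj hι a ha hna hν N c
        refine ⟨c₁ * w₁, Ideal.mul_mem_left _ _ h1, ?_⟩
        rw [smul_eq_mul, map_mul, show c * y - ν c₁ * ν w₁ = c * (y - ν w₁) + (c - ν c₁) * ν w₁ by ring]
        exact add_mem (Ideal.mul_mem_left _ _ h1') (Ideal.mul_mem_right _ _ hc₁)
    obtain ⟨w₁, h1, h1'⟩ := key _ hw
    rw [← map_sub] at h1'
    have h2 : w - w₁ ∈ q ^ N := (Ideal.span_le.2 (Set.singleton_subset_iff.2 (Ideal.pow_mem_pow hαq N)))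
      (approx_inj hι a ha hna hν N _ h1')
    simpa using add_mem h2 h1
  haveI hq' : q'.IsMaximal := by
    rw [Ideal.isMaximal_iff]
    refine ⟨fun h => hq.ne_top ((Ideal.eq_top_iff_one _).2 ?_), fun J y hJ hy hyJ => ?_⟩
    · have := hback 1 1 (by rw [map_one, pow_one]; exact h)
      rwa [pow_one] at this
    · obtain ⟨w, hw⟩ := happ 1 y
      rw [pow_one] at hw
      have hwq : w ∉ q := fun h => hy (by simpa using add_mem hw (Ideal.mem_map_of_mem ν h))
      obtain ⟨v, i, hi, hv⟩ := hq.exists_inv hwq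
      have h3 : ν w ∈ J := by simpa using sub_mem hyJ (hJ hw)
      rw [show (1 : cplChart hι a ha) = ν v * ν w + ν i by rw [← map_mul, ← map_add, hv, map_one]]
      exact add_mem (Ideal.mul_mem_left _ _ h3) (hJ (Ideal.mem_map_of_mem _ hi))
  have hcomap : q'.comap ν = q := le_antisymm
    (fun w hw => by simpa using hback 1 w (by rw [pow_one]; exact hw)) Ideal.le_comap_map
  haveI := isNoetherianRing_chart (maximalIdeal T) (ι a) ha'
  haveI : IsNoetherianRing (Localization.AtPrime q) := isNoetherianRing_of_ringEquiv _ e.symm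
  haveI : IsNoetherianRing (Localization.AtPrime q') := IsLocalization.isNoetherianRing q'.primeCompl _ inferInstance
  obtain ⟨χ, hχ⟩ : ∃ χ : Localization.AtPrime q →+* Localization.AtPrime q', ∀ w,
      χ (algebraMap _ (Localization.AtPrime q) w) = algebraMap _ (Localization.AtPrime q') (ν w) :=
    ⟨Localization.localRingHom q q' ν hcomap.symm, fun w => Localization.localRingHom_to_map _ _ _ _ w⟩
  have hm1 : ∀ N, maximalIdeal (Localization.AtPrime q) ^ N = (q ^ N).map (algebraMap _ _) := fun N => by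
    rw [Ideal.map_pow, Localization.AtPrime.map_eq_maximalIdeal]
  have hm2 : ∀ N, maximalIdeal (Localization.AtPrime q') ^ N = (q' ^ N).map (algebraMap _ _) := fun N => by
    rw [Ideal.map_pow, Localization.AtPrime.map_eq_maximalIdeal]
  have hunit : ∀ (N : ℕ) (s : cplChart hι a ha), s ∉ q' → ∃ v, 1 - ν v * s ∈ q' ^ N := fun N s hs => by
    obtain ⟨v, i, hi, hv⟩ := hq'.exists_inv hs
    obtain ⟨v₁, hv₁⟩ := happ N (v * ∑ j ∈ Finset.range N, i ^ j)
    refine ⟨v₁, ?_⟩
    have hgeom := geom_sum_mul_neg i N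
    rw [show 1 - ν v₁ * s = ((v * ∑ j ∈ Finset.range N, i ^ j) - ν v₁) * s +
        (1 - (∑ j ∈ Finset.range N, i ^ j) * (v * s)) by ring, show v * s = 1 - i by rw [← hv]; ring, hgeom]
    refine add_mem (Ideal.mul_mem_right _ _ hv₁) ?_
    simpa using Ideal.pow_mem_pow hi N
  have hχm : IsCplMap χ := by
    refine isCplMap_of χ ?_ (fun N t => ?_) fun N r hr => ?_
    · rw [← Localization.AtPrime.map_eq_maximalIdeal, ← Localization.AtPrime.map_eq_maximalIdeal, Ideal.map_map]
      refine Ideal.map_le_iff_le_comap.2 fun w hw => ?_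
      rw [Ideal.mem_comap, RingHom.comp_apply, hχ]
      exact Ideal.mem_map_of_mem _ (Ideal.mem_map_of_mem _ hw)
    · obtain ⟨⟨z, s⟩, hzs⟩ := IsLocalization.surj q'.primeCompl t
      obtain ⟨v, hv⟩ := hunit N s s.2
      obtain ⟨w, hw⟩ := happ N z
      refine ⟨algebraMap _ _ (v * w), ?_⟩
      rw [hm2, hχ, map_mul ν, show t - algebraMap _ _ (ν v * ν w) =
          t * algebraMap _ _ (1 - ν v * s) + algebraMap _ _ (ν v) * algebraMap _ _ (z - ν w) by
        have hzs' : t * algebraMap _ _ (s : cplChart hι a ha) = algebraMap _ _ z := hzs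
        rw [map_sub, map_sub, map_one, map_mul, map_mul, mul_sub, ← hzs']; ring]
      exact add_mem (Ideal.mul_mem_left _ _ (Ideal.mem_map_of_mem _ hv))
        (Ideal.mul_mem_left _ _ (Ideal.mem_map_of_mem _ hw))
    · obtain ⟨⟨z, s⟩, hzs⟩ := IsLocalization.surj q.primeCompl r
      have h1 : algebraMap _ (Localization.AtPrime q') (ν z) ∈ (q' ^ N).map (algebraMap _ _) := by
        rw [← hm2, ← hχ, show algebraMap _ _ z = r * algebraMap _ _ (s : Chart (maximalIdeal S) a ha) from hzs.symm,
          map_mul]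
        exact Ideal.mul_mem_right _ _ hr
      obtain ⟨u, hu, hu'⟩ := (IsLocalization.algebraMap_mem_map_algebraMap_iff q'.primeCompl _ _ _).1 h1
      obtain ⟨v, hv⟩ := hunit N u hu
      have h2 : ν z ∈ q' ^ N := by
        rw [show ν z = ν v * (u * ν z) + (1 - ν v * u) * ν z by ring]
        exact add_mem (Ideal.mul_mem_left _ _ hu') (Ideal.mul_mem_right _ _ hv)
      rw [hm1]
      have h3 : r * algebraMap _ _ (s : Chart (maximalIdeal S) a ha) ∈
          (q ^ N).map (algebraMap _ (Localization.AtPrime q)) :=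
        hzs.symm ▸ Ideal.mem_map_of_mem _ (hback N z h2)
      rwa [Ideal.mul_unit_mem_iff_mem _ (IsLocalization.map_units _ s)] at h3
  have he' : IsCplMap e.symm.toRingHom := by
    have hmm : (maximalIdeal S').map e.symm.toRingHom = maximalIdeal (Localization.AtPrime q) :=
      IsLocalRing.map_maximalIdeal_of_surjective _ e.symm.surjective
    refine isCplMap_of _ hmm.le (fun N b => ⟨e b, by simp⟩) fun N r hr => ?_
    rw [← hmm, ← Ideal.map_pow] at hr
    obtain ⟨r', hr', hrr⟩ := (Ideal.mem_map_iff_of_surjective _ e.symm.surjective).1 hr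
    exact e.symm.injective hrr ▸ hr'
  refine ⟨Localization.AtPrime q', inferInstance, inferInstance, inferInstance,
    (algebraMap _ (Localization.AtPrime q')).comp (chartHom (maximalIdeal T) (ι a) ha'), χ.comp e.symm.toRingHom,
    ⟨ι a, ha', q', hq', ι_ne_zero hι a hna, fun t ht => ?_, RingEquiv.refl _, fun x => rfl⟩, ?_, ?_⟩
  · rw [Ideal.mem_comap]
    obtain ⟨r, hr⟩ := hι.approx 1 t
    rw [pow_one] at hr
    have hrm : r ∈ maximalIdeal S := by
      have h1 : ι r ∈ (maximalIdeal S ^ 1).map ι := by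
        rw [hι.map_pow, pow_one, show ι r = t - (t - ι r) by ring]; exact sub_mem ht hr
      simpa using hι.mem_of _ h1
    have h2 : ∀ y ∈ maximalIdeal T, chartHom (maximalIdeal T) (ι a) ha' y ∈ q' := by
      intro y hy
      have h3 : chartHom (maximalIdeal T) (ι a) ha' (ι a) ∈ q' := by
        rw [← comparison_chartHom hι a ha hν]; exact Ideal.mem_map_of_mem _ hαq
      rw [chartHom_eq (maximalIdeal T) (ι a) ha' y (by rw [pow_one]; exact hy)]
      exact Ideal.mul_mem_right _ _ h3
    exact h2 t ht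
  · refine ⟨fun n => ?_, fun J x hx => ?_, fun n y => ?_⟩
    · rw [← Ideal.map_map, he'.map_pow, hχm.map_pow]
    · rw [← Ideal.map_map] at hx
      exact he'.mem_of _ (hχm.mem_of _ hx)
    · obtain ⟨r, hr⟩ := hχm.approx n y
      refine ⟨e r, ?_⟩
      simpa using hr
  · refine RingHom.ext fun x => ?_
    show χ (e.symm (φ x)) = algebraMap _ (Localization.AtPrime q') (chartHom (maximalIdeal T) (ι a) ha' (ι x))
    rw [← he, RingEquiv.symm_apply_apply, hχ, comparison_chartHom hι a ha hν]

end Groth.L05.PtChain
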