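import Groth.Agent.L05.PtChain.Lift
import Mathlib.RingTheory.Jacobson.Ring

/-! Basic facts on point steps, change of chart. -/

set_option autoImplicit false
set_option maxSynthPendingDepth 5
set_option linter.style.haveILetI false
set_option backward.isDefEq.respectTransparency false
set_option backward.isDefEq.respectTransparency.types false
set_option maxHeartbeats 800000

universe u

noncomputable section

namespace Groth.L05.PtChain

open IsLocalRing Groth.L13.BU
open Groth.L05.RatPow (chart_isDomain chart_eq_zero_iff finiteType_chartHom)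

/-- The kernel of a map to a field integral over the base is maximal. -/
theorem ker_isMaximal_of_isIntegral {S C K : Type u} [CommRing S] [IsLocalRing S] [CommRing C] [Field K]
    (ι : S →+* C) (h : C →+* K) (g : S →+* K) (hg : h.comp ι = g) (hm : ∀ r ∈ maximalIdeal S, g r = 0)
    (hi : g.IsIntegral) : (RingHom.ker h).IsMaximal := by
  let h' : C ⧸ RingHom.ker h →+* K := RingHom.kerLift h
  letI : Algebra S K := g.toAlgebra
  letI : Algebra S (C ⧸ RingHom.ker h) := ((Ideal.Quotient.mk (RingHom.ker h)).comp ι).toAlgebra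
  haveI : Algebra.IsIntegral S K := ⟨hi⟩
  let A : (C ⧸ RingHom.ker h) →ₐ[S] K := { h' with commutes' := fun r => RingHom.congr_fun hg r }
  haveI : Algebra.IsIntegral S (C ⧸ RingHom.ker h) := Algebra.IsIntegral.of_injective A (RingHom.kerLift_injective h)
  haveI : (RingHom.ker h).IsPrime := RingHom.ker_isPrime h
  have hb : (⊥ : Ideal (C ⧸ RingHom.ker h)).IsMaximal := by
    refine Ideal.isMaximal_of_isIntegral_of_isMaximal_comap (R := S) ⊥ ?_
    have h1 : (⊥ : Ideal (C ⧸ RingHom.ker h)).comap (algebraMap S (C ⧸ RingHom.ker h)) = maximalIdeal S := by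
      refine le_antisymm (IsLocalRing.le_maximalIdeal (Ideal.comap_ne_top _ bot_ne_top)) fun r hr => ?_
      rw [Ideal.mem_comap, Ideal.mem_bot]
      exact RingHom.kerLift_injective h
        ((RingHom.congr_fun hg r).trans ((hm r hr).trans (map_zero (RingHom.kerLift h)).symm))
    rw [h1]; infer_instance
  exact (Ideal.bot_quotient_isMaximal_iff _).1 hb

variable {S S' : Type u} [CommRing S] [IsLocalRing S] [CommRing S'] [IsLocalRing S'] {φ : S →+* S'}

theorem IsPtStep.map_mem (h : IsPtStep φ) {r : S} (hr : r ∈ maximalIdeal S) : φ r ∈ maximalIdeal S' := by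
  obtain ⟨a, ha, q, hq, -, hqm, e, he⟩ := h
  rw [← he, IsLocalRing.mem_maximalIdeal, mem_nonunits_iff, MulEquiv.isUnit_map]
  exact (IsLocalization.AtPrime.to_map_mem_maximal_iff (Localization.AtPrime q) q _).2 (hqm hr)

theorem IsPtStep.isLocalHom (h : IsPtStep φ) : IsLocalHom φ :=
  ⟨fun r hr => by
    by_contra hn
    exact h.map_mem hn hr⟩

omit [IsLocalRing S'] in
theorem IsPtStep.isDomain [IsDomain S] (h : IsPtStep φ) : IsDomain S' := by
  obtain ⟨a, ha, q, hq, hna, -, e, -⟩ := h
  haveI := chart_isDomain (maximalIdeal S) a ha hna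
  haveI : IsDomain (Localization.AtPrime q) := IsLocalization.isDomain_localization q.primeCompl_le_nonZeroDivisors
  exact e.symm.injective.isDomain e.symm.toRingHom

omit [IsLocalRing S'] in
theorem IsPtStep.injective [IsDomain S] (h : IsPtStep φ) : Function.Injective φ := by
  obtain ⟨a, ha, q, hq, hna, -, e, he⟩ := h
  haveI := chart_isDomain (maximalIdeal S) a ha hna
  refine (injective_iff_map_eq_zero φ).2 fun r hr => ?_
  rw [← he, map_eq_zero_iff e e.injective,
    map_eq_zero_iff _ (IsLocalization.injective (Localization.AtPrime q) q.primeCompl_le_nonZeroDivisors),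
    chartHom_apply, chart_eq_zero_iff _ _ _ hna] at hr
  exact hr

/-- The residue field of a step is finite over the base. -/
theorem IsPtStep.residue_isIntegral [IsNoetherianRing S] (h : IsPtStep φ) : ((residue S').comp φ).IsIntegral := by
  obtain ⟨a, ha, q, hq, hna, hqm, e, he⟩ := h
  set g : S →+* Chart (maximalIdeal S) a ha ⧸ q := (Ideal.Quotient.mk q).comp (chartHom _ a ha)
  let gk : S ⧸ maximalIdeal S →+* Chart (maximalIdeal S) a ha ⧸ q :=
    Ideal.Quotient.lift _ g fun r hr => Ideal.Quotient.eq_zero_iff_mem.2 (hqm hr)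
  have hgft : g.FiniteType := (RingHom.FiniteType.of_surjective _ Ideal.Quotient.mk_surjective).comp
    (finiteType_chartHom (maximalIdeal S) a ha)
  have hgk : gk.FiniteType := RingHom.FiniteType.of_comp_finiteType
    (f := Ideal.Quotient.mk (maximalIdeal S)) (show (gk.comp (Ideal.Quotient.mk (maximalIdeal S))).FiniteType by rwa [show gk.comp (Ideal.Quotient.mk (maximalIdeal S)) = g from RingHom.ext fun _ => rfl])
  have hfin : gk.Finite := by
    letI := Ideal.Quotient.field q
    haveI : IsJacobsonRing (S ⧸ maximalIdeal S) := by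
      letI := Ideal.Quotient.field (maximalIdeal S); infer_instance
    exact RingHom.finite_iff_finiteType_of_isJacobsonRing.2 hgk
  have hint : g.IsIntegral := by
    have := (RingHom.IsIntegral.trans (Ideal.Quotient.mk (maximalIdeal S)) gk
      (RingHom.isIntegral_of_surjective _ Ideal.Quotient.mk_surjective) hfin.to_isIntegral)
    rwa [show gk.comp (Ideal.Quotient.mk (maximalIdeal S)) = g from RingHom.ext fun _ => rfl] at this
  let er : Chart (maximalIdeal S) a ha ⧸ q →+* ResidueField S' :=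
    Ideal.Quotient.lift q ((residue S').comp (e.toRingHom.comp (algebraMap _ _))) fun z hz => by
      show residue S' (e (algebraMap _ (Localization.AtPrime q) z)) = 0
      rw [residue_eq_zero_iff, IsLocalRing.mem_maximalIdeal, mem_nonunits_iff, MulEquiv.isUnit_map]
      exact (IsLocalization.AtPrime.to_map_mem_maximal_iff (Localization.AtPrime q) q _).2 hz
  letI := Ideal.Quotient.field q
  intro z
  have hsurj : Function.Surjective er := by
    intro z
    obtain ⟨z, rfl⟩ := residue_surjective z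
    obtain ⟨⟨c, u, hu⟩, hcu⟩ := IsLocalization.mk'_surjective q.primeCompl (e.symm z)
    refine ⟨Ideal.Quotient.mk q c * (Ideal.Quotient.mk q u)⁻¹, ?_⟩
    have hu0 : Ideal.Quotient.mk q u ≠ 0 := fun h0 => hu (Ideal.Quotient.eq_zero_iff_mem.1 h0)
    have hu0' : er (Ideal.Quotient.mk q u) ≠ 0 := fun h0 => hu0 ((map_eq_zero er).1 h0)
    rw [map_mul, map_inv₀, mul_inv_eq_iff_eq_mul₀ hu0']
    show residue S' (e (algebraMap _ _ c)) = residue S' z * residue S' (e (algebraMap _ _ u))
    rw [← map_mul, ← IsLocalization.mk'_spec (Localization.AtPrime q) c (⟨u, hu⟩ : q.primeCompl), map_mul]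
    simp only [show IsLocalization.mk' (Localization.AtPrime q) c (⟨u, hu⟩ : q.primeCompl) = e.symm z from hcu,
      RingEquiv.apply_symm_apply]
  obtain ⟨w, rfl⟩ := hsurj z
  obtain ⟨p, hpm, hp⟩ := hint w
  refine ⟨p, hpm, ?_⟩
  have h1 := congrArg er hp
  rw [map_zero, Polynomial.hom_eval₂] at h1
  rwa [show er.comp g = (residue S').comp φ from RingHom.ext fun w => congrArg (residue S') (he w)] at h1

/-- A point step in the chart of `x`. -/
def StepAt {T T' : Type u} [CommRing T] [IsLocalRing T] [CommRing T'] (f : T →+* T') (x : T)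
    (hx : x ∈ maximalIdeal T ^ 1) : Prop :=
  ∃ (q : Ideal (Chart (maximalIdeal T) x hx)) (_ : q.IsMaximal),
    maximalIdeal T ≤ q.comap (chartHom (maximalIdeal T) x hx) ∧
    ∃ e : Localization.AtPrime q ≃+* T', ∀ r, e (algebraMap _ (Localization.AtPrime q) (chartHom _ x hx r)) = f r

omit [IsLocalRing S'] in
theorem StepAt.isPtStep {x : S} {hx : x ∈ maximalIdeal S ^ 1} (h : StepAt φ x hx) (hx0 : x ≠ 0) : IsPtStep φ := by
  obtain ⟨q, hq, hqm, e, he⟩ := h
  exact ⟨x, hx, q, hq, hx0, hqm, e, he⟩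

/-- Criterion for a point step. -/
theorem chart_step_of [IsDomain S] [IsDomain S'] (hinj : Function.Injective φ)
    (hloc : ∀ r ∈ maximalIdeal S, φ r ∈ maximalIdeal S') (hres : ((residue S').comp φ).IsIntegral) {x : S}
    (hx : x ∈ maximalIdeal S ^ 1) (hx0 : x ≠ 0) (ψ : Chart (maximalIdeal S) x hx →+* S')
    (hψ : ψ.comp (chartHom (maximalIdeal S) x hx) = φ)
    (hsurj : ∀ z : S', ∃ c u, IsUnit (ψ u) ∧ z * ψ u = ψ c) : StepAt φ x hx := by
  set h : Chart (maximalIdeal S) x hx →+* ResidueField S' := (residue S').comp ψ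
  have hhg : h.comp (chartHom (maximalIdeal S) x hx) = (residue S').comp φ := by rw [RingHom.comp_assoc, hψ]
  have hmax := ker_isMaximal_of_isIntegral _ h _ hhg (fun r hr => by
    rw [RingHom.comp_apply, residue_eq_zero_iff]; exact hloc r hr) hres
  set q₂ := RingHom.ker h
  have hmem : ∀ z, z ∈ q₂ ↔ ψ z ∈ maximalIdeal S' := fun z => by
    rw [RingHom.mem_ker, RingHom.comp_apply, residue_eq_zero_iff]
  haveI := hmax
  have hunit : ∀ u : q₂.primeCompl, IsUnit (ψ (u : Chart (maximalIdeal S) x hx)) := fun u => by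
    by_contra hu
    exact u.2 ((hmem _).2 hu)
  let E : Localization.AtPrime q₂ →+* S' := IsLocalization.lift hunit
  have hEψ : ∀ z, E (algebraMap _ _ z) = ψ z := IsLocalization.lift_eq hunit
  haveI := chart_isDomain (maximalIdeal S) x hx hx0
  refine ⟨q₂, hmax, fun r hr => ?_, RingEquiv.ofBijective E ⟨(injective_iff_map_eq_zero E).2 fun z hz => ?_,
    fun z => ?_⟩, fun r => ?_⟩
  · rw [Ideal.mem_comap, hmem, ← RingHom.comp_apply, hψ]; exact hloc r hr
  · obtain ⟨⟨c, u⟩, rfl⟩ := IsLocalization.mk'_surjective q₂.primeCompl z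
    obtain ⟨n, d, hd, rfl⟩ := frac_surjective _ _ hx c
    rw [IsLocalization.lift_mk'_spec, mul_zero] at hz
    have h1 := congrArg ψ (pow_mul_frac _ _ hx n d hd)
    rw [map_mul, hz, mul_zero, ← RingHom.comp_apply, hψ] at h1
    have hd0 : d = 0 := hinj (h1.symm.trans (map_zero φ).symm)
    simp only [(chart_eq_zero_iff _ _ _ hx0 _).2 hd0, IsLocalization.mk'_zero]
  · obtain ⟨c, u, hu, hcu⟩ := hsurj z
    refine ⟨IsLocalization.mk' _ c (⟨u, fun hm => (hmem u).1 hm hu⟩ : q₂.primeCompl), ?_⟩
    rw [IsLocalization.lift_mk'_spec, mul_comm]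
    exact hcu.symm
  · show E _ = _
    rw [hEψ, ← RingHom.comp_apply, hψ]

/-- Change of chart. -/
theorem exists_chart_change [IsDomain S] [IsNoetherianRing S] {a x : S} (ha : a ∈ maximalIdeal S ^ 1)
    (hx : x ∈ maximalIdeal S ^ 1) (hna : a ≠ 0) (q : Ideal (Chart (maximalIdeal S) a ha)) [q.IsMaximal]
    (hqm : maximalIdeal S ≤ q.comap (chartHom (maximalIdeal S) a ha))
    (hxq : frac (maximalIdeal S) a ha 1 x hx ∉ q) (e : Localization.AtPrime q ≃+* S')
    (he : ∀ r, e (algebraMap _ (Localization.AtPrime q) (chartHom (maximalIdeal S) a ha r)) = φ r) :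
    ∃ _ : x ≠ 0, StepAt φ x hx := by
  have hφ : IsPtStep φ := ⟨a, ha, q, ‹_›, hna, hqm, e, he⟩
  haveI := hφ.isDomain
  haveI := hφ.isLocalHom
  set v := e (algebraMap _ (Localization.AtPrime q) (frac (maximalIdeal S) a ha 1 x hx))
  have hv : IsUnit v := (IsLocalization.map_units (Localization.AtPrime q)
    (⟨_, hxq⟩ : q.primeCompl)).map e
  have hxv : φ x = φ a * v := by rw [← he, ← he, chartHom_eq _ _ ha x hx, map_mul, map_mul]
  have hx0 : x ≠ 0 := by
    rintro rfl
    rw [map_zero] at hxv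
    rcases mul_eq_zero.1 hxv.symm with h0 | h0
    · exact hna (hφ.injective (h0.trans (map_zero φ).symm))
    · exact hv.ne_zero h0
  obtain ⟨U, hU⟩ := hv
  have hφa : φ a ≠ 0 := fun h0 => hna (hφ.injective (h0.trans (map_zero φ).symm))
  obtain ⟨ψ, hψ⟩ := exists_chart_lift (maximalIdeal S) x hx φ
    (mem_nonZeroDivisors_of_ne_zero fun h0 => hx0 (hφ.injective (h0.trans (map_zero φ).symm))) (fun r hr =>
      ⟨↑U⁻¹ * e (algebraMap _ _ (frac (maximalIdeal S) a ha 1 r (by rwa [pow_one]))), by
        rw [hxv, ← hU, mul_assoc, ← mul_assoc (U : S'), Units.mul_inv, one_mul, ← he r, ← he a,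
          chartHom_eq _ _ ha r (by rwa [pow_one]), map_mul, map_mul]⟩)
  set ω : Chart (maximalIdeal S) a ha →+* S' := e.toRingHom.comp (algebraMap _ (Localization.AtPrime q))
  have hω : ω.comp (chartHom _ a ha) = φ := RingHom.ext he
  set fa := frac (maximalIdeal S) x hx 1 a ha
  have h2 : φ a = φ x * ψ fa := by
    rw [← hψ, RingHom.comp_apply, RingHom.comp_apply, ← map_mul, ← chartHom_eq]
  have hfa : IsUnit (ψ fa) := IsUnit.of_mul_eq_one (U : S') (mul_left_cancel₀ hφa (by
    rw [mul_one, ← mul_assoc, mul_right_comm, hU, ← hxv]; exact h2.symm))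
  have key : ∀ n d (hd : d ∈ maximalIdeal S ^ n),
      ω (frac _ a ha n d hd) * ψ fa ^ n = ψ (frac _ x hx n d hd) := by
    intro n d hd
    refine mul_left_cancel₀ (a := φ x ^ n) (pow_ne_zero n fun h0 => hx0 (hφ.injective (h0.trans (map_zero φ).symm))) ?_
    have h3 := congrArg ω (pow_mul_frac _ _ ha n d hd)
    rw [map_mul, map_pow, ← RingHom.comp_apply ω, ← RingHom.comp_apply ω, hω] at h3
    have h4 := congrArg ψ (pow_mul_frac _ _ hx n d hd)
    rw [map_mul, map_pow, ← RingHom.comp_apply ψ, ← RingHom.comp_apply ψ, hψ] at h4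
    rw [h4, ← h3, h2]
    ring
  refine ⟨hx0, chart_step_of hφ.injective (fun _ => hφ.map_mem) hφ.residue_isIntegral hx hx0 ψ hψ fun z => ?_⟩
  obtain ⟨⟨c, u, hu⟩, hcu⟩ := IsLocalization.mk'_surjective q.primeCompl (e.symm z)
  have h6 : z * ω u = ω c := by
    show z * e _ = e _
    rw [← IsLocalization.mk'_spec (Localization.AtPrime q) c (⟨u, hu⟩ : q.primeCompl), map_mul]
    simp only [show IsLocalization.mk' (Localization.AtPrime q) c (⟨u, hu⟩ : q.primeCompl) = e.symm z from hcu,
      RingEquiv.apply_symm_apply]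
  have huu : IsUnit (ω u) := (IsLocalization.map_units (Localization.AtPrime q) (⟨u, hu⟩ : q.primeCompl)).map e
  obtain ⟨n, d, hd, rfl⟩ := frac_surjective _ _ ha c
  obtain ⟨m, d', hd', rfl⟩ := frac_surjective _ _ ha u
  refine ⟨frac _ x hx n d hd * fa ^ m, frac _ x hx m d' hd' * fa ^ n, ?_, ?_⟩
  · rw [map_mul, map_pow, ← key m d' hd']; exact (huu.mul (hfa.pow _)).mul (hfa.pow _)
  · rw [map_mul, map_mul, map_pow, map_pow, ← key m d' hd', ← key n d hd, ← h6]; ring

end Groth.L05.PtChain
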